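import Groth.Prelude.Def_SymProd
import Groth.Agent.SGA1Q.Orbits
import Mathlib.RingTheory.PiTensorProduct
import Mathlib.LinearAlgebra.Multilinear.Basic
import Mathlib.AlgebraicGeometry.AffineScheme

/-!
# Fibre powers of an affine scheme over an affine open

The sections of the fibre power over the affine open are the tensor power of the algebra.
-/

set_option autoImplicit false
set_option backward.isDefEq.respectTransparency false
set_option backward.isDefEq.respectTransparency.types false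

universe u

open CategoryTheory CategoryTheory.Limits AlgebraicGeometry
open scoped TensorProduct

namespace H9SymQ

variable {X S : Scheme.{u}} (f : X ⟶ S) (d : ℕ) {S₀ : S.Opens} (h : ⊤ ≤ f ⁻¹ᵁ S₀)

/-- The part of the fibre power over `S₀`. -/
noncomputable abbrev baseOpen (f : X ⟶ S) (d : ℕ) (S₀ : S.Opens) : (SymProd.fibPow f d).Opens :=
  WidePullback.base (fun _ : Fin d => f) ⁻¹ᵁ S₀

/-- `Γ(X)` as an algebra over `Γ(S₀)`. -/
@[implicit_reducible]
noncomputable def algX : Algebra Γ(S, S₀) Γ(X, ⊤) :=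
  (f.appLE S₀ ⊤ h).hom.toAlgebra

/-- The sections of the fibre power over `S₀` as an algebra over `Γ(S₀)`. -/
@[implicit_reducible]
noncomputable def algPow (f : X ⟶ S) (d : ℕ) (S₀ : S.Opens) :
    Algebra Γ(S, S₀) Γ(SymProd.fibPow f d, baseOpen f d S₀) :=
  ((WidePullback.base (fun _ : Fin d => f)).appLE S₀ (baseOpen f d S₀) le_rfl).hom.toAlgebra

/-- The pullback of a function by the `i`-th projection. -/
noncomputable def proj (f : X ⟶ S) (d : ℕ) (S₀ : S.Opens) (i : Fin d) :
    Γ(X, ⊤) ⟶ Γ(SymProd.fibPow f d, baseOpen f d S₀) :=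
  (WidePullback.π (fun _ : Fin d => f) i).appLE ⊤ (baseOpen f d S₀) (fun _ _ => trivial)

lemma appLE_proj (i : Fin d) : f.appLE S₀ ⊤ h ≫ proj f d S₀ i =
    (WidePullback.base (fun _ : Fin d => f)).appLE S₀ (baseOpen f d S₀) le_rfl := by
  rw [proj, Scheme.Hom.appLE_comp_appLE]
  exact SGA1Q.appLE_congr_hom (WidePullback.π_arrow (fun _ : Fin d => f) i) _ _

/-- `a ↦ 1 ⊗ ⋯ ⊗ a ⊗ ⋯ ⊗ 1 ↦ π_i^* a`. -/
noncomputable def projAlg (i : Fin d) :
    letI := algX f h
    letI := algPow f d S₀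
    Γ(X, ⊤) →ₐ[Γ(S, S₀)] Γ(SymProd.fibPow f d, baseOpen f d S₀) :=
  letI := algX f h
  letI := algPow f d S₀
  { (proj f d S₀ i).hom with
    commutes' := fun r => congr(($(appLE_proj f d h i)).hom r) }

/-- The comparison map from the tensor power. -/
noncomputable def powHom :
    letI := algX f h
    letI := algPow f d S₀
    (⨂[Γ(S, S₀)] _ : Fin d, Γ(X, ⊤)) →ₐ[Γ(S, S₀)] Γ(SymProd.fibPow f d, baseOpen f d S₀) :=
  letI := algX f h
  letI := algPow f d S₀
  PiTensorProduct.liftAlgHom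
    ((MultilinearMap.mkPiAlgebra Γ(S, S₀) (Fin d) Γ(SymProd.fibPow f d, baseOpen f d S₀)).compLinearMap
      fun i => (projAlg f d h i).toLinearMap)
    (by simp) (by simp [Finset.prod_mul_distrib])

lemma powHom_tprod (m : Fin d → Γ(X, ⊤)) :
    letI := algX f h
    letI := algPow f d S₀
    powHom f d h (PiTensorProduct.tprod Γ(S, S₀) m) = ∏ i, (proj f d S₀ i).hom (m i) := by
  letI := algX f h
  letI := algPow f d S₀
  simp [powHom, projAlg]

variable [IsAffine X] (hS₀ : IsAffineOpen S₀)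

include hS₀

/-- **The fibre power over an affine open is affine, with ring the tensor power.** -/
theorem isAffineOpen_baseOpen_and_bijective :
    letI := algX f h
    letI := algPow f d S₀
    IsAffineOpen (baseOpen f d S₀) ∧ Function.Bijective (powHom f d h) := by
  letI := algX f h
  letI := algPow f d S₀
  let R := Γ(S, S₀)
  let B : Type u := ⨂[R] _ : Fin d, Γ(X, ⊤)
  let W := baseOpen f d S₀
  have hX : IsAffineOpen (⊤ : X.Opens) := isAffineOpen_top X
  have hfr : hX.fromSpec ≫ f = Spec.map (f.appLE S₀ ⊤ h) ≫ hS₀.fromSpec :=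
    (IsAffineOpen.SpecMap_appLE_fromSpec f hS₀ hX h).symm
  let σ : ∀ i, Γ(X, ⊤) ⟶ CommRingCat.of B := fun i =>
    CommRingCat.ofHom (PiTensorProduct.singleAlgHom (R := R) (A := fun _ : Fin d => Γ(X, ⊤)) i).toRingHom
  let η : R ⟶ CommRingCat.of B := CommRingCat.ofHom (algebraMap R B)
  have hση : ∀ i, f.appLE S₀ ⊤ h ≫ σ i = η := fun i => by
    ext r
    exact (PiTensorProduct.singleAlgHom (R := R) (A := fun _ : Fin d => Γ(X, ⊤)) i).commutes r
  let Ψ : Spec (CommRingCat.of B) ⟶ SymProd.fibPow f d :=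
    WidePullback.lift (Spec.map η ≫ hS₀.fromSpec) (fun i => Spec.map (σ i) ≫ hX.fromSpec)
      (fun i => by rw [Category.assoc, hfr, ← Spec.map_comp_assoc, hση])
  have hΨπ : ∀ i, Ψ ≫ WidePullback.π (fun _ : Fin d => f) i = Spec.map (σ i) ≫ hX.fromSpec :=
    fun i => WidePullback.lift_π _ _ _ _ i
  have hΨb : Ψ ≫ WidePullback.base (fun _ : Fin d => f) = Spec.map η ≫ hS₀.fromSpec :=
    WidePullback.lift_base _ _ _ _
  have hr : Set.range Ψ.base ⊆ Set.range W.ι.base := by
    rw [Scheme.Opens.range_ι]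
    rintro _ ⟨z, rfl⟩
    show (WidePullback.base (fun _ : Fin d => f)).base (Ψ.base z) ∈ S₀
    have e := congr(($hΨb).base z)
    refine (show _ = _ from e) ▸ ?_
    show hS₀.fromSpec.base _ ∈ (S₀ : Set S)
    rw [← hS₀.range_fromSpec]
    exact ⟨_, rfl⟩
  let Ψ' : Spec (CommRingCat.of B) ⟶ W.toScheme := IsOpenImmersion.lift W.ι Ψ hr
  have hΨ' : Ψ' ≫ W.ι = Ψ := IsOpenImmersion.lift_fac _ _ _
  let θ : CommRingCat.of B ⟶ Γ(SymProd.fibPow f d, W) :=
    CommRingCat.ofHom (powHom f d h).toRingHom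
  have hσθ : ∀ i, σ i ≫ θ = proj f d S₀ i := fun i => by
    ext a
    exact DFunLike.congr_fun (show (powHom f d h).comp
      (PiTensorProduct.singleAlgHom (R := R) (A := fun _ : Fin d => Γ(X, ⊤)) i) = projAlg f d h i from by
      ext b
      show powHom f d h (PiTensorProduct.tprod R (Pi.mulSingle i b)) = (proj f d S₀ i).hom b
      rw [powHom_tprod, Finset.prod_eq_single i (fun j _ hj => by rw [Pi.mulSingle_eq_of_ne hj, map_one])
        (fun hi => absurd (Finset.mem_univ i) hi), Pi.mulSingle_eq_same]) a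
  have hηθ : η ≫ θ = (WidePullback.base (fun _ : Fin d => f)).appLE S₀ W le_rfl := by
    ext r
    exact (powHom f d h).commutes r
  let Ξ : W.toScheme ⟶ Spec (CommRingCat.of B) := W.toSpecΓ ≫ Spec.map θ
  have hto : ∀ {Y : Scheme.{u}} (g : SymProd.fibPow f d ⟶ Y) (V : Y.Opens) (hV : IsAffineOpen V)
      (e : W ≤ g ⁻¹ᵁ V), W.toSpecΓ ≫ Spec.map (g.appLE V W e) ≫ hV.fromSpec = W.ι ≫ g := by
    intro Y g V hV e
    rw [← Category.assoc, Scheme.Opens.toSpecΓ_SpecMap_appLE, Category.assoc,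
      hV.toSpecΓ_fromSpec, Scheme.Hom.resLE_comp_ι]
  have h1 : Ξ ≫ Ψ' = 𝟙 _ := by
    rw [← cancel_mono W.ι, Category.assoc, hΨ', Category.id_comp]
    apply WidePullback.hom_ext
    · intro i
      rw [Category.assoc, hΨπ, Category.assoc, ← Spec.map_comp_assoc, hσθ]
      exact hto _ _ hX _
    · rw [Category.assoc, hΨb, Category.assoc, ← Spec.map_comp_assoc, hηθ]
      exact hto _ _ hS₀ _
  obtain ⟨ρ, hρ⟩ := Spec.map_surjective (Ψ' ≫ W.toSpecΓ)
  have hρθ : θ ≫ ρ = 𝟙 _ := by
    have hproj : ∀ i, proj f d S₀ i ≫ ρ = σ i := fun i => by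
      refine Spec.map_injective ?_
      rw [← cancel_mono hX.fromSpec, Spec.map_comp, hρ, Category.assoc, Category.assoc]
      refine (congrArg (Ψ' ≫ ·) (hto (WidePullback.π (fun _ : Fin d => f) i) _ hX _)).trans ?_
      rw [reassoc_of% hΨ', hΨπ]
    have hbase : (WidePullback.base (fun _ : Fin d => f)).appLE S₀ W le_rfl ≫ ρ = η := by
      refine Spec.map_injective ?_
      rw [← cancel_mono hS₀.fromSpec, Spec.map_comp, hρ, Category.assoc, Category.assoc]
      refine (congrArg (Ψ' ≫ ·) (hto (WidePullback.base (fun _ : Fin d => f)) _ hS₀ _)).trans ?_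
      rw [reassoc_of% hΨ', hΨb]
    let ρa : Γ(SymProd.fibPow f d, W) →ₐ[R] B :=
      { ρ.hom with commutes' := fun r => congr(($hbase).hom r) }
    have : ρa.comp (powHom f d h) = AlgHom.id R B := by
      refine PiTensorProduct.algHom_ext fun i => ?_
      ext a
      show ρ.hom ((θ.hom) ((σ i).hom a)) = (σ i).hom a
      have e1 := congr(($(hσθ i)).hom a)
      have e2 := congr(($(hproj i)).hom a)
      rw [show θ.hom ((σ i).hom a) = (proj f d S₀ i).hom a from e1]
      exact e2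
    ext b
    exact DFunLike.congr_fun this b
  have h2 : Ψ' ≫ Ξ = 𝟙 _ := by
    show Ψ' ≫ W.toSpecΓ ≫ Spec.map θ = 𝟙 _
    rw [← Category.assoc, ← hρ, ← Spec.map_comp, hρθ, Spec.map_id]
  haveI : IsIso Ξ := ⟨⟨Ψ', h1, h2⟩⟩
  haveI : IsAffine W.toScheme := IsAffine.of_isIso Ξ
  have hW : IsAffineOpen W := ‹IsAffine W.toScheme›
  haveI : IsIso W.toSpecΓ := by rw [← hW.isoSpec_hom]; infer_instance
  haveI : IsIso (Spec.map θ) := IsIso.of_isIso_comp_left W.toSpecΓ (Spec.map θ)
  haveI : IsIso θ := isIso_of_reflects_iso' θ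
  exact ⟨hW, ConcreteCategory.bijective_of_isIso θ⟩
where
  isIso_of_reflects_iso' {A B : CommRingCat.{u}} (θ : A ⟶ B) [IsIso (Spec.map θ)] : IsIso θ := by
    obtain ⟨ψ, hψ⟩ := Spec.map_surjective (inv (Spec.map θ))
    refine ⟨⟨ψ, ?_, ?_⟩⟩ <;> apply Spec.map_injective <;> simp [hψ]

omit hS₀ [IsAffine X] in
/-- Equivariance of the comparison map. -/
theorem smul_powHom (σ : ULift.{u} (Equiv.Perm (Fin d)))
    (hW : ∀ g, baseOpen f d S₀ ≤ (SymProd.permActU f d g).hom ⁻¹ᵁ baseOpen f d S₀)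
    (z : letI := algX f h
      ⨂[Γ(S, S₀)] _ : Fin d, Γ(X, ⊤)) :
    letI := algX f h
    letI := algPow f d S₀
    letI := SGA1Q.secAction (SymProd.permActU f d) (baseOpen f d S₀) hW
    σ • powHom f d h z =
      powHom f d h (PiTensorProduct.reindex Γ(S, S₀) (fun _ : Fin d => Γ(X, ⊤)) σ.down z) := by
  letI := algX f h
  letI := algPow f d S₀
  letI := SGA1Q.secAction (SymProd.permActU f d) (baseOpen f d S₀) hW
  have hproj : ∀ i a, σ • (proj f d S₀ i).hom a = (proj f d S₀ (σ.down i)).hom a := by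
    intro i a
    show ((SymProd.permActU f d σ⁻¹).hom.appLE _ _ (hW _)).hom ((proj f d S₀ i).hom a) = _
    rw [← RingHom.comp_apply, ← CommRingCat.hom_comp, proj, Scheme.Hom.appLE_comp_appLE]
    refine congr(($(SGA1Q.appLE_congr_hom ?_ _ _)).hom a)
    rw [SymProd.permActU_hom, SymProd.permHom_π]
    rfl
  induction z using PiTensorProduct.induction_on with
  | smul_tprod r m =>
    rw [map_smul, map_smul, map_smul, PiTensorProduct.reindex_tprod, powHom_tprod, powHom_tprod,
      Algebra.smul_def, Algebra.smul_def, smul_mul', Finset.smul_prod']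
    congr 1
    · show ((SymProd.permActU f d σ⁻¹).hom.appLE _ _ (hW _)).hom
        (((WidePullback.base (fun _ : Fin d => f)).appLE _ _ le_rfl).hom r) = _
      rw [← RingHom.comp_apply, ← CommRingCat.hom_comp, Scheme.Hom.appLE_comp_appLE]
      exact congr(($(SGA1Q.appLE_congr_hom (SymProd.permHom_base f d (σ⁻¹).down) _ _)).hom r)
    · refine Finset.prod_nbij' σ.down σ.down.symm (by simp) (by simp) (by simp) (by simp) fun i _ => ?_
      rw [hproj, Equiv.symm_apply_apply]
  | add a b ha hb => rw [map_add, smul_add, ha, hb, map_add, map_add]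

end H9SymQ
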