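import Groth.Prelude.Def_SymProd
import Mathlib.AlgebraicGeometry.Morphisms.ClosedImmersion
import Mathlib.AlgebraicGeometry.PullbackCarrier

/-!
# Charts on fibre powers; fibre powers of closed immersions
-/

set_option autoImplicit false
set_option backward.isDefEq.respectTransparency false
set_option backward.isDefEq.respectTransparency.types false

universe u

open CategoryTheory CategoryTheory.Limits AlgebraicGeometry TopologicalSpace

namespace H9SymQ

variable {X U S : Scheme.{u}} (f : X ⟶ S) (u : U ⟶ X) {d : ℕ}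

/-- The tuples whose `i`-th entry lies in `C i`. -/
noncomputable def prodOpen (f : X ⟶ S) (C : Fin d → X.Opens) : (SymProd.fibPow f d).Opens :=
  ⟨⋂ i, (WidePullback.π (fun _ : Fin d => f) i).base ⁻¹' (C i : Set X),
    isOpen_iInter_of_finite fun i => (C i).2.preimage (WidePullback.π (fun _ : Fin d => f) i).continuous⟩

lemma mem_prodOpen {f : X ⟶ S} {C : Fin d → X.Opens} {z : SymProd.fibPow f d} :
    z ∈ prodOpen f C ↔ ∀ i, (WidePullback.π (fun _ : Fin d => f) i).base z ∈ C i :=
  Set.mem_iInter

lemma prodOpen_le {f : X ⟶ S} (C : Fin d → X.Opens) (i : Fin d) :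
    prodOpen f C ≤ (WidePullback.π (fun _ : Fin d => f) i) ⁻¹ᵁ C i :=
  fun _ hz => mem_prodOpen.1 hz i

variable (d) in
/-- The map of fibre powers induced by `u`. -/
noncomputable abbrev powMap : SymProd.fibPow (u ≫ f) d ⟶ SymProd.fibPow f d :=
  SymProd.fibPowMap (u ≫ f) d f u rfl

variable (C : Fin d → U.Opens)

/-- A product of charts is a chart of the fibre power. -/
theorem isOpenImmersion_prodOpen [∀ i, IsOpenImmersion ((C i).ι ≫ u)] :
    IsOpenImmersion ((prodOpen (u ≫ f) C).ι ≫ powMap f u d) ∧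
      Set.range ((prodOpen (u ≫ f) C).ι ≫ powMap f u d).base =
        (prodOpen f fun i => ((C i).ι ≫ u).opensRange : Set (SymProd.fibPow f d)) := by
  set W := prodOpen (u ≫ f) C
  set O := prodOpen f fun i => ((C i).ι ≫ u).opensRange
  -- the forward map
  have hfwd : Set.range (W.ι ≫ powMap f u d).base ⊆ Set.range O.ι.base := by
    rw [Scheme.Opens.range_ι]
    rintro _ ⟨z, rfl⟩
    refine mem_prodOpen.2 fun i => ?_
    have hz : (WidePullback.π (fun _ : Fin d => u ≫ f) i).base (W.ι.base z) ∈ C i :=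
      mem_prodOpen.1 z.2 i
    refine ⟨⟨_, hz⟩, ?_⟩
    have e := congr(($(SymProd.fibPowMap_π (u ≫ f) d f u rfl i)).base (W.ι.base z))
    exact e.symm
  let e : W.toScheme ⟶ O.toScheme := IsOpenImmersion.lift O.ι (W.ι ≫ powMap f u d) hfwd
  have he : e ≫ O.ι = W.ι ≫ powMap f u d := IsOpenImmersion.lift_fac _ _ _
  -- the backward map
  have hbwd : ∀ i, Set.range (O.ι ≫ WidePullback.π (fun _ : Fin d => f) i).base ⊆
      Set.range ((C i).ι ≫ u).base := by
    rintro i _ ⟨z, rfl⟩
    exact mem_prodOpen.1 z.2 i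
  let l : ∀ i, O.toScheme ⟶ (C i).toScheme := fun i =>
    IsOpenImmersion.lift ((C i).ι ≫ u) (O.ι ≫ WidePullback.π (fun _ : Fin d => f) i) (hbwd i)
  have hl : ∀ i, l i ≫ (C i).ι ≫ u = O.ι ≫ WidePullback.π (fun _ : Fin d => f) i := fun i =>
    IsOpenImmersion.lift_fac _ _ _
  let g : O.toScheme ⟶ SymProd.fibPow (u ≫ f) d :=
    WidePullback.lift (O.ι ≫ WidePullback.base _) (fun i => l i ≫ (C i).ι) (fun i => by
      rw [Category.assoc, ← Category.assoc (C i).ι u f, ← Category.assoc (l i), hl,
        Category.assoc, WidePullback.π_arrow])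
  have hgπ : ∀ i, g ≫ WidePullback.π (fun _ : Fin d => u ≫ f) i = l i ≫ (C i).ι := fun i =>
    WidePullback.lift_π _ _ _ _ i
  have hg : Set.range g.base ⊆ Set.range W.ι.base := by
    rw [Scheme.Opens.range_ι]
    rintro _ ⟨z, rfl⟩
    refine mem_prodOpen.2 fun i => ?_
    have e := congr(($(hgπ i)).base z)
    rw [show (WidePullback.π (fun _ : Fin d => u ≫ f) i).base (g.base z) =
      (C i).ι.base ((l i).base z) from e]
    exact ((l i).base z).2
  let g' : O.toScheme ⟶ W.toScheme := IsOpenImmersion.lift W.ι g hg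
  have hg' : g' ≫ W.ι = g := IsOpenImmersion.lift_fac _ _ _
  have h1 : g' ≫ e = 𝟙 _ := by
    rw [← cancel_mono O.ι, Category.assoc, he, reassoc_of% hg', Category.id_comp]
    apply WidePullback.hom_ext
    · intro i
      rw [Category.assoc, SymProd.fibPowMap_π, ← Category.assoc, hgπ, Category.assoc, hl]
    · rw [Category.assoc, SymProd.fibPowMap_base]
      exact WidePullback.lift_base _ _ _ _
  have h2 : e ≫ g' = 𝟙 _ := by
    rw [← cancel_mono W.ι, Category.assoc, hg', Category.id_comp]
    apply WidePullback.hom_ext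
    · intro i
      rw [Category.assoc, hgπ]
      have hz : Set.range (W.ι ≫ WidePullback.π (fun _ : Fin d => u ≫ f) i).base ⊆
          Set.range (C i).ι.base := by
        rw [Scheme.Opens.range_ι]
        rintro _ ⟨z, rfl⟩
        exact mem_prodOpen.1 z.2 i
      obtain ⟨m, hm⟩ : ∃ m, m ≫ (C i).ι = W.ι ≫ WidePullback.π (fun _ : Fin d => u ≫ f) i :=
        ⟨IsOpenImmersion.lift (C i).ι _ hz, IsOpenImmersion.lift_fac _ _ _⟩
      rw [← hm, ← Category.assoc]
      congr 1
      rw [← cancel_mono ((C i).ι ≫ u), Category.assoc, hl, reassoc_of% he, SymProd.fibPowMap_π,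
        reassoc_of% hm]
    · rw [Category.assoc]
      erw [WidePullback.lift_base]
      rw [reassoc_of% he, SymProd.fibPowMap_base]
  let E : W.toScheme ≅ O.toScheme := ⟨e, g', h2, h1⟩
  have hE : E.hom ≫ O.ι = W.ι ≫ powMap f u d := he
  haveI : IsIso E.hom := E.isIso_hom
  haveI : IsOpenImmersion E.hom := IsOpenImmersion.of_isIso E.hom
  have hoi : IsOpenImmersion (W.ι ≫ powMap f u d) := by
    rw [← hE]
    exact IsOpenImmersion.comp E.hom O.ι
  refine ⟨hoi, ?_⟩
  rw [← hE, Scheme.Hom.comp_base, TopCat.coe_comp, Set.range_comp,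
    Set.range_eq_univ.2 (Scheme.Hom.surjective E.hom), Set.image_univ, Scheme.Opens.range_ι]

lemma eq_of_mem_prodOpen {J : Type*} {C : J → U.Opens}
    (hC : ∀ a b, a ≠ b → Disjoint (C a : Set U) (C b)) {c c' : Fin d → J}
    {z : SymProd.fibPow (u ≫ f) d} (h : z ∈ prodOpen (u ≫ f) (C ∘ c))
    (h' : z ∈ prodOpen (u ≫ f) (C ∘ c')) : c = c' := by
  funext i
  by_contra hne
  exact Set.disjoint_left.1 (hC _ _ hne) (mem_prodOpen.1 h i) (mem_prodOpen.1 h' i)

/-- The fibre power of a closed immersion is a closed immersion. -/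
theorem isClosedImmersion_fibPowMap {Z : Scheme.{u}} (g : Z ⟶ S) (i : Z ⟶ X) [IsClosedImmersion i]
    (w : i ≫ f = g) : IsClosedImmersion (SymProd.fibPowMap g d f i w) := by
  set h := SymProd.fibPowMap g d f i w
  let π := fun j => WidePullback.π (fun _ : Fin d => f) j
  let c : ∀ j, pullback (π j) i ⟶ SymProd.fibPow f d := fun j => pullback.fst (π j) i
  let I := ⨆ j, (c j).ker
  have hlift : ∀ j, (c j).ker ≤ I.subschemeι.ker := fun j => by
    rw [Scheme.IdealSheafData.ker_subschemeι]
    exact le_iSup (fun j => (c j).ker) j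
  let l : ∀ j, I.subscheme ⟶ pullback (π j) i := fun j =>
    IsClosedImmersion.lift (c j) I.subschemeι (hlift j)
  have hl : ∀ j, l j ≫ pullback.snd (π j) i ≫ i = I.subschemeι ≫ π j := fun j => by
    rw [← pullback.condition, ← Category.assoc]
    exact congrArg (· ≫ π j) (IsClosedImmersion.lift_fac _ _ _)
  let a : I.subscheme ⟶ SymProd.fibPow g d :=
    WidePullback.lift (I.subschemeι ≫ WidePullback.base _) (fun j => l j ≫ pullback.snd (π j) i)
      (fun j => by
        rw [← w, Category.assoc, ← Category.assoc (pullback.snd (π j) i), ← Category.assoc (l j),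
          hl, Category.assoc, WidePullback.π_arrow])
  have ha : a ≫ h = I.subschemeι := by
    apply WidePullback.hom_ext
    · intro j
      rw [Category.assoc, SymProd.fibPowMap_π, ← Category.assoc]
      erw [WidePullback.lift_π]
      rw [Category.assoc, hl]
    · rw [Category.assoc, SymProd.fibPowMap_base]
      exact WidePullback.lift_base _ _ _ _
  have hker : I.subschemeι.ker ≤ h.ker := by
    rw [Scheme.IdealSheafData.ker_subschemeι]
    refine iSup_le fun j => ?_
    have hj : pullback.lift h (WidePullback.π (fun _ : Fin d => g) j)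
        (SymProd.fibPowMap_π g d f i w j) ≫ c j = h := pullback.lift_fst _ _ _
    rw [← hj]
    exact Scheme.Hom.le_ker_comp _ _
  let b : SymProd.fibPow g d ⟶ I.subscheme := IsClosedImmersion.lift I.subschemeι h hker
  have hb : b ≫ I.subschemeι = h := IsClosedImmersion.lift_fac _ _ _
  haveI : Mono i := inferInstance
  have hab : b ≫ a = 𝟙 _ := by
    apply WidePullback.hom_ext
    · intro j
      have e1 : a ≫ WidePullback.π (fun _ : Fin d => g) j = l j ≫ pullback.snd (π j) i :=
        WidePullback.lift_π _ _ _ _ j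
      rw [← cancel_mono i, Category.assoc b a, e1, Category.id_comp, Category.assoc, Category.assoc,
        hl, reassoc_of% hb, SymProd.fibPowMap_π]
    · rw [Category.assoc, Category.id_comp]
      erw [WidePullback.lift_base]
      rw [reassoc_of% hb, SymProd.fibPowMap_base]
  have hba : a ≫ b = 𝟙 _ := by
    rw [← cancel_mono I.subschemeι, Category.assoc, hb, ha, Category.id_comp]
  let E : SymProd.fibPow g d ≅ I.subscheme := ⟨b, a, hab, hba⟩
  have hE : E.hom ≫ I.subschemeι = h := hb
  haveI : IsIso E.hom := E.isIso_hom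
  rw [← hE]
  exact MorphismProperty.comp_mem _ E.hom I.subschemeι (inferInstanceAs (IsClosedImmersion E.hom)) inferInstance

end H9SymQ
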