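import Groth.Agent.H9SymQ.Local
import Groth.Agent.SGA1Q.Exists
import Mathlib.AlgebraicGeometry.Morphisms.ClosedImmersion
import Mathlib.AlgebraicGeometry.Morphisms.Flat

/-!
# Geometric kit: invariant basic opens, sections generated by a base change
-/

set_option autoImplicit false
set_option backward.isDefEq.respectTransparency false
set_option backward.isDefEq.respectTransparency.types false

universe u

open CategoryTheory CategoryTheory.Limits AlgebraicGeometry TopologicalSpace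

namespace H9SymQ

variable {X : Scheme.{u}} {G : Type u} [Group G] [Finite G] {ρ : G →* Aut X} {V : X.Opens}

lemma hom_apply_inv (g : G) (z : X) : (ρ g).hom ((ρ g⁻¹).hom z) = z := by
  rw [SGA1Q.hom_mul_apply, mul_inv_cancel, SGA1Q.hom_one_apply]

omit [Finite G] in
/-- The basic open of a translate. -/
lemma mem_basicOpen_smul (hV : ∀ g : G, V ≤ (ρ g).hom ⁻¹ᵁ V) (g : G) (a : Γ(X, V)) {z : X}
    (hz : z ∈ V) :
    letI := SGA1Q.secAction ρ V hV
    z ∈ X.basicOpen (g • a) ↔ (ρ g⁻¹).hom z ∈ X.basicOpen a := by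
  show z ∈ X.basicOpen (((ρ g⁻¹).hom.appLE V V (hV _)).hom a) ↔ _
  rw [Scheme.Hom.appLE, CommRingCat.comp_apply, Scheme.basicOpen_res, ← Scheme.preimage_basicOpen]
  exact ⟨fun h => h.2, fun h => ⟨hz, h⟩⟩

/-- A point whose orbit under a subgroup lies in an open has an invariant basic neighbourhood in it. -/
theorem exists_fixed_basicOpen (hVa : IsAffineOpen V) (hV : ∀ g : G, V ≤ (ρ g).hom ⁻¹ᵁ V)
    (H : Subgroup G) (Ω : X.Opens) (z : X) (hz : z ∈ V) (hzΩ : ∀ h ∈ H, (ρ h).hom z ∈ Ω) :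
    letI := SGA1Q.secAction ρ V hV
    ∃ t : Γ(X, V), (∀ h ∈ H, h • t = t) ∧ X.basicOpen t ≤ Ω ∧ z ∈ X.basicOpen t := by
  classical
  letI := SGA1Q.secAction ρ V hV
  cases nonempty_fintype G
  let I : Ideal Γ(X, V) :=
    { carrier := {f | X.basicOpen f ≤ Ω}
      add_mem' := fun {a b} ha hb => (X.basicOpen_add_le a b).trans (sup_le ha hb)
      zero_mem' := by
        show X.basicOpen (0 : Γ(X, V)) ≤ Ω
        rw [Scheme.basicOpen_zero]; exact bot_le
      smul_mem' := fun c a ha => by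
        show X.basicOpen (c * a) ≤ Ω
        rw [Scheme.basicOpen_mul]
        exact inf_le_right.trans ha }
  have hzV : ∀ h : H, (ρ (h : G)).hom z ∈ V := fun h => hV (h : G) hz
  let P : H → Ideal Γ(X, V) := fun h =>
    RingHom.ker (X.evaluation V ((ρ (h : G)).hom z) (hzV h)).hom
  have hP : ∀ h a, a ∈ P h ↔ (ρ (h : G)).hom z ∉ X.basicOpen a := fun h a =>
    Scheme.evaluation_eq_zero_iff_notMem_basicOpen X _ (hzV h) a
  obtain ⟨f, hfΩ, hf⟩ : ∃ f, X.basicOpen f ≤ Ω ∧ ∀ h : H, (ρ (h : G)).hom z ∈ X.basicOpen f := by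
    by_contra hne
    push_neg at hne
    have hsub : (I : Set Γ(X, V)) ⊆ ⋃ h ∈ (↑(Finset.univ : Finset H) : Set H), P h := by
      intro f hf
      obtain ⟨h, hh⟩ := hne f hf
      exact Set.mem_biUnion (Finset.mem_coe.2 (Finset.mem_univ h)) ((hP h f).2 hh)
    obtain ⟨h, -, hh⟩ := (Ideal.subset_union_prime 1 1
      (fun h _ _ _ => RingHom.ker_isPrime _)).1 hsub
    obtain ⟨f, hf, hxf⟩ := hVa.exists_basicOpen_le ⟨_, hzΩ h h.2⟩ (hzV h)
    exact (hP h f).1 (hh (show f ∈ I from hf)) hxf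
  have hmem : ∀ (s : Finset H) (y : X), y ∈ X.basicOpen (∏ h ∈ s, (h : G) • f) ↔
      y ∈ V ∧ ∀ h ∈ s, (ρ (h : G)⁻¹).hom y ∈ X.basicOpen f := by
    intro s y
    induction s using Finset.induction with
    | empty => simp [Scheme.basicOpen_one]
    | insert h s hh ih =>
      rw [Finset.prod_insert hh, Scheme.basicOpen_mul, Opens.mem_inf, ih, Finset.forall_mem_insert]
      exact ⟨fun ⟨h1, h2, h3⟩ => ⟨h2, (mem_basicOpen_smul hV _ _ h2).1 h1, h3⟩,
        fun ⟨h1, h2, h3⟩ => ⟨(mem_basicOpen_smul hV _ _ h1).2 h2, h1, h3⟩⟩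
  refine ⟨∏ h : H, (h : G) • f, fun k hk => ?_, fun y hy => ?_, ?_⟩
  · rw [Finset.smul_prod']
    refine Fintype.prod_equiv (Equiv.mulLeft (⟨k, hk⟩ : H)) _ _ fun h => ?_
    rw [← mul_smul]
    rfl
  · have h1 := ((hmem _ y).1 hy).2 1 (Finset.mem_univ _)
    rw [OneMemClass.coe_one, inv_one, SGA1Q.hom_one_apply] at h1
    exact hfΩ h1
  · rw [hmem]
    exact ⟨hz, fun h _ => hf h⁻¹⟩

/-- Points in a finite orbit are pairwise incomparable. -/
lemma not_mem_closure_of_ne {z y : X} (g : G) (hy : (ρ g).hom z = y) (hne : y ≠ z) :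
    z ∉ closure ({y} : Set X) := by
  intro h
  have hs : y ⤳ z := specializes_iff_mem_closure.2 h
  have hstep : ∀ n : ℕ, (ρ (g ^ (n + 1))).hom z ⤳ (ρ (g ^ n)).hom z := fun n => by
    have := hs.map (ρ (g ^ n)).hom.continuous
    rw [← hy, SGA1Q.hom_mul_apply, ← pow_succ] at this
    exact this
  have hto : ∀ n : ℕ, (ρ (g ^ (n + 1))).hom z ⤳ y := by
    intro n
    induction n with
    | zero => rw [pow_one, hy]
    | succ n ih => exact (hstep (n + 1)).trans ih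
  obtain ⟨m, hm⟩ := Nat.exists_eq_add_one.2 (orderOf_pos g)
  have := hto m
  rw [← hm, pow_orderOf_eq_one, SGA1Q.hom_one_apply] at this
  exact hne ((this.antisymm hs).symm.eq)

/-- Sections on a closed subscheme of a base change are generated by those of the factors. -/
theorem isAffineOpen_and_adjoin_eq_top {Z P S S' : Scheme.{u}} {a : P ⟶ S} {b : S' ⟶ S}
    (j : Z ⟶ pullback a b) [IsClosedImmersion j] (φ : Z ⟶ P) (ψ : Z ⟶ S')
    (hφ : j ≫ pullback.fst a b = φ) (hψ : j ≫ pullback.snd a b = ψ)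
    {S₀ : S.Opens} {S₀' : S'.Opens} {W : P.Opens} (hS : IsAffineOpen S₀) (hS' : IsAffineOpen S₀')
    (hW : IsAffineOpen W) (hWS : W ≤ a ⁻¹ᵁ S₀) (hle : S₀' ≤ b ⁻¹ᵁ S₀) :
    IsAffineOpen (φ ⁻¹ᵁ W ⊓ ψ ⁻¹ᵁ S₀') ∧
      letI := (ψ.appLE S₀' (φ ⁻¹ᵁ W ⊓ ψ ⁻¹ᵁ S₀') inf_le_right).hom.toAlgebra
      Algebra.adjoin Γ(S', S₀')
        (Set.range (φ.appLE W (φ ⁻¹ᵁ W ⊓ ψ ⁻¹ᵁ S₀') inf_le_left).hom) = ⊤ := by
  letI := (ψ.appLE S₀' (φ ⁻¹ᵁ W ⊓ ψ ⁻¹ᵁ S₀') inf_le_right).hom.toAlgebra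
  have H := IsPullback.of_hasPullback a b
  set UY := pullback.fst a b ⁻¹ᵁ W ⊓ pullback.snd a b ⁻¹ᵁ S₀' with hUY
  have hpre : j ⁻¹ᵁ UY = φ ⁻¹ᵁ W ⊓ ψ ⁻¹ᵁ S₀' := by
    subst hφ hψ
    rfl
  have hUYa : IsAffineOpen UY := by
    haveI : IsAffine S₀.toScheme := hS
    haveI : IsAffine S₀'.toScheme := hS'
    haveI : IsAffine W.toScheme := hW
    let i : pullback (a.resLE S₀ W hWS) (b.resLE S₀ S₀' hle) ⟶ pullback a b :=
      pullback.map _ _ a b W.ι S₀'.ι S₀.ι (by simp) (by simp)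
    have hrange : Set.range i.base = (UY : Set _) := by
      rw [Scheme.Pullback.range_map]
      simp [hUY]
    haveI : IsAffine (pullback (a.resLE S₀ W hWS) (b.resLE S₀ S₀' hle)) := inferInstance
    have := isAffineOpen_opensRange i
    rwa [show i.opensRange = UY from Opens.ext hrange] at this
  have hpo := (isIso_pushoutSection_iff H (US := S₀) (UT := S₀') (UX := W) hle hWS hUY).1
    (isIso_pushoutSection_of_isAffineOpen H hle hWS hUY hS hS' hW)
  refine ⟨hpre ▸ hUYa.preimage j, ?_⟩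
  letI algS' := (b.appLE S₀ S₀' hle).hom.toAlgebra
  letI algW := (a.appLE S₀ W hWS).hom.toAlgebra
  letI algY := ((pullback.snd a b).appLE S₀' UY (hUY ▸ inf_le_right)).hom.toAlgebra
  letI algWY := ((pullback.fst a b).appLE W UY (hUY ▸ inf_le_left)).hom.toAlgebra
  letI algSY := (((pullback.snd a b).appLE S₀' UY (hUY ▸ inf_le_right)).hom.comp
    (b.appLE S₀ S₀' hle).hom).toAlgebra
  haveI : IsScalarTower Γ(S, S₀) Γ(S', S₀') Γ(pullback a b, UY) := IsScalarTower.of_algebraMap_eq' rfl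
  haveI : IsScalarTower Γ(S, S₀) Γ(P, W) Γ(pullback a b, UY) :=
    IsScalarTower.of_algebraMap_eq' (congrArg CommRingCat.Hom.hom hpo.w).symm
  haveI hP : Algebra.IsPushout Γ(S, S₀) Γ(S', S₀') Γ(P, W) Γ(pullback a b, UY) :=
    CommRingCat.isPushout_iff_isPushout.1 hpo.flip
  rw [eq_top_iff]
  rintro c -
  have hsurj := j.app_surjective UY hUYa
  let r : Γ(pullback a b, UY) ⟶ Γ(Z, φ ⁻¹ᵁ W ⊓ ψ ⁻¹ᵁ S₀') := j.appLE UY _ hpre.ge
  have hr : Function.Surjective r.hom := by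
    have : r = j.app UY ≫ Z.presheaf.map (eqToHom hpre.symm).op := rfl
    rw [this, CommRingCat.hom_comp, RingHom.coe_comp]
    exact (ConcreteCategory.bijective_of_isIso (Z.presheaf.map (eqToHom hpre.symm).op)).2.comp hsurj
  obtain ⟨y, rfl⟩ := hr c
  have hrS : ∀ s, r.hom (algebraMap Γ(S', S₀') _ s) = algebraMap Γ(S', S₀') _ s := fun s => by
    show r.hom (((pullback.snd a b).appLE S₀' UY _).hom s) = (ψ.appLE S₀' _ _).hom s
    rw [← RingHom.comp_apply, ← CommRingCat.hom_comp, Scheme.Hom.appLE_comp_appLE]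
    exact congr(($(SGA1Q.appLE_congr_hom hψ _ _)).hom s)
  induction y using hP.out.inductionOn with
  | zero => rw [map_zero]; exact zero_mem _
  | tmul m =>
    refine Algebra.subset_adjoin ⟨m, ?_⟩
    show (φ.appLE W _ _).hom m = r.hom (((pullback.fst a b).appLE W UY _).hom m)
    rw [← RingHom.comp_apply, ← CommRingCat.hom_comp, Scheme.Hom.appLE_comp_appLE]
    exact congr(($(SGA1Q.appLE_congr_hom hφ.symm _ _)).hom m)
  | smul s y hy =>
    rw [Algebra.smul_def, map_mul, hrS]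
    exact mul_mem (Subalgebra.algebraMap_mem _ _) hy
  | add a b ha hb => rw [map_add]; exact add_mem ha hb

end H9SymQ
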