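import Groth.Agent.H9SymQ.Span
import Groth.Agent.H9SymQ.Affine
import Groth.Agent.H9SymQ.Kit
import Groth.Agent.H9SymQ.Chart

/-!
# Fibre powers and change of the base; spanning of invariants in the affine case
-/

set_option autoImplicit false
set_option backward.isDefEq.respectTransparency false
set_option backward.isDefEq.respectTransparency.types false

universe u

open CategoryTheory CategoryTheory.Limits AlgebraicGeometry TopologicalSpace
open scoped TensorProduct

namespace H9SymQ

variable {X S X' S' : Scheme.{u}} (f : X ⟶ S) (f' : X' ⟶ S') (hX : X' ⟶ X) (hS : S' ⟶ S)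
  (w : hX ≫ f = f' ≫ hS) (d : ℕ)

/-- The map of fibre powers over a change of base. -/
noncomputable def powBC : SymProd.fibPow f' d ⟶ SymProd.fibPow f d :=
  WidePullback.lift (WidePullback.base _ ≫ hS) (fun i => WidePullback.π _ i ≫ hX) (fun i => by
    rw [Category.assoc, w, WidePullback.π_arrow_assoc])

@[reassoc]
lemma powBC_π (i : Fin d) :
    powBC f f' hX hS w d ≫ WidePullback.π (fun _ : Fin d => f) i =
      WidePullback.π (fun _ : Fin d => f') i ≫ hX :=
  WidePullback.lift_π _ _ _ _ i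

@[reassoc]
lemma powBC_base : powBC f f' hX hS w d ≫ WidePullback.base (fun _ : Fin d => f) =
    WidePullback.base (fun _ : Fin d => f') ≫ hS :=
  WidePullback.lift_base _ _ _ _

@[reassoc]
lemma permHom_powBC (σ : Equiv.Perm (Fin d)) :
    SymProd.permHom f' d σ ≫ powBC f f' hX hS w d = powBC f f' hX hS w d ≫ SymProd.permHom f d σ := by
  apply WidePullback.hom_ext
  · intro i
    rw [Category.assoc, powBC_π, Category.assoc, SymProd.permHom_π, powBC_π,
      SymProd.permHom_π_assoc]
  · rw [Category.assoc, powBC_base, Category.assoc, SymProd.permHom_base, powBC_base,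
      SymProd.permHom_base_assoc]

/-- The map to the base change of the fibre power. -/
noncomputable def jPow :
    SymProd.fibPow f' d ⟶ pullback (WidePullback.base (fun _ : Fin d => f)) hS :=
  pullback.lift (powBC f f' hX hS w d) (WidePullback.base _) (powBC_base f f' hX hS w d)

/-- The fibre power of a base change is the base change of the fibre power. -/
instance isIso_jPow_snd :
    IsIso (jPow f (pullback.snd f hS) (pullback.fst f hS) hS pullback.condition d) := by
  let s := pullback.snd f hS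
  let E := jPow f s (pullback.fst f hS) hS pullback.condition d
  let q := pullback.fst (WidePullback.base (fun _ : Fin d => f)) hS
  let p := pullback.snd (WidePullback.base (fun _ : Fin d => f)) hS
  have hq : ∀ i, (q ≫ WidePullback.π (fun _ : Fin d => f) i) ≫ f = p ≫ hS := fun i => by
    rw [Category.assoc, WidePullback.π_arrow]
    exact pullback.condition
  let I : pullback (WidePullback.base (fun _ : Fin d => f)) hS ⟶ SymProd.fibPow s d :=
    WidePullback.lift p (fun i => pullback.lift (q ≫ WidePullback.π (fun _ : Fin d => f) i) p (hq i))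
      (fun i => pullback.lift_snd _ _ _)
  have hIπ : ∀ i, I ≫ WidePullback.π (fun _ : Fin d => s) i =
      pullback.lift (q ≫ WidePullback.π (fun _ : Fin d => f) i) p (hq i) :=
    fun i => WidePullback.lift_π _ _ _ _ i
  have hIb : I ≫ WidePullback.base (fun _ : Fin d => s) = p := WidePullback.lift_base _ _ _ _
  have hE1 : E ≫ q = powBC f s (pullback.fst f hS) hS pullback.condition d := pullback.lift_fst _ _ _
  have hE2 : E ≫ p = WidePullback.base (fun _ : Fin d => s) := pullback.lift_snd _ _ _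
  have h1 : E ≫ I = 𝟙 _ := by
    apply WidePullback.hom_ext
    · intro i
      rw [Category.assoc, hIπ, Category.id_comp]
      apply pullback.hom_ext
      · rw [Category.assoc, pullback.lift_fst, reassoc_of% hE1]
        exact powBC_π _ _ _ _ _ d i
      · rw [Category.assoc, pullback.lift_snd, hE2]
        exact (WidePullback.π_arrow _ _).symm
    · rw [Category.assoc, hIb, Category.id_comp, hE2]
  have h2 : I ≫ E = 𝟙 _ := by
    apply pullback.hom_ext
    · rw [Category.assoc, Category.id_comp]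
      refine (congrArg (I ≫ ·) hE1).trans ?_
      apply WidePullback.hom_ext
      · intro i
        rw [Category.assoc, powBC_π, reassoc_of% hIπ, pullback.lift_fst]
      · rw [Category.assoc, powBC_base, reassoc_of% hIb]
        exact pullback.condition.symm
    · rw [Category.assoc, Category.id_comp]
      exact (congrArg (I ≫ ·) hE2).trans hIb
  exact ⟨⟨I, h1, h2⟩⟩

instance isClosedImmersion_jPow [IsClosedImmersion (pullback.lift hX f' w)] :
    IsClosedImmersion (jPow f f' hX hS w d) := by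
  let s := pullback.snd f hS
  haveI := isClosedImmersion_fibPowMap (d := d) s f' (pullback.lift hX f' w) (pullback.lift_snd _ _ _)
  have hfac : SymProd.fibPowMap f' d s (pullback.lift hX f' w) (pullback.lift_snd _ _ _) ≫
      jPow f s (pullback.fst f hS) hS pullback.condition d = jPow f f' hX hS w d := by
    apply pullback.hom_ext
    · rw [Category.assoc, jPow, pullback.lift_fst, jPow, pullback.lift_fst]
      apply WidePullback.hom_ext
      · intro i
        rw [Category.assoc, powBC_π, powBC_π, SymProd.fibPowMap_π_assoc, pullback.lift_fst]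
      · rw [Category.assoc, powBC_base, powBC_base, SymProd.fibPowMap_base_assoc]
    · rw [Category.assoc, jPow, pullback.lift_snd, jPow, pullback.lift_snd, SymProd.fibPowMap_base]
  rw [← hfac]
  infer_instance

lemma preimage_baseOpen_le {S₀ : S.Opens} {S₀' : S'.Opens} (hle : S₀' ≤ hS ⁻¹ᵁ S₀) :
    baseOpen f' d S₀' ≤ powBC f f' hX hS w d ⁻¹ᵁ baseOpen f d S₀ := by
  intro z hz
  show (WidePullback.base (fun _ : Fin d => f)).base ((powBC f f' hX hS w d).base z) ∈ S₀
  have e := congr(($(powBC_base f f' hX hS w d)).base z)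
  exact (show _ = _ from e).symm ▸ hle hz

lemma baseOpen_stable (f : X ⟶ S) (d : ℕ) (S₀ : S.Opens) (g : ULift.{u} (Equiv.Perm (Fin d))) :
    baseOpen f d S₀ ≤ (SymProd.permActU f d g).hom ⁻¹ᵁ baseOpen f d S₀ := by
  rw [baseOpen, ← Scheme.Hom.comp_preimage, SymProd.permActU_hom, SymProd.permHom_base]

/-- **Affine case: the invariants are spanned by the images of invariants.** -/
theorem mem_invSpan_affine [IsAffine X] [IsAffine X'] {S₀ : S.Opens} {S₀' : S'.Opens}
    (hS' : IsAffineOpen S₀') (h : ⊤ ≤ f ⁻¹ᵁ S₀) (h' : ⊤ ≤ f' ⁻¹ᵁ S₀')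
    (hle : S₀' ≤ hS ⁻¹ᵁ S₀) (hflat : (f'.appLE S₀' ⊤ h').hom.Flat)
    (hgen : letI := algX f' h'
      Algebra.adjoin Γ(S', S₀') (Set.range (hX.appLE ⊤ ⊤ le_rfl).hom) = ⊤) :
    letI := algPow f' d S₀'
    letI := SGA1Q.secAction (SymProd.permActU f d) (baseOpen f d S₀) (baseOpen_stable f d S₀)
    letI := SGA1Q.secAction (SymProd.permActU f' d) (baseOpen f' d S₀') (baseOpen_stable f' d S₀')
    ∀ z : Γ(SymProd.fibPow f' d, baseOpen f' d S₀'),
      (∀ g : ULift.{u} (Equiv.Perm (Fin d)), g • z = z) →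
      z ∈ invSpan Γ(S', S₀') ((powBC f f' hX hS w d).appLE (baseOpen f d S₀) (baseOpen f' d S₀')
        (preimage_baseOpen_le f f' hX hS w d hle)).hom (⊤ : Subgroup (ULift.{u} (Equiv.Perm (Fin d)))) := by
  letI := algX f' h'
  letI := algX f h
  letI := algPow f' d S₀'
  letI := algPow f d S₀
  letI := SGA1Q.secAction (SymProd.permActU f d) (baseOpen f d S₀) (baseOpen_stable f d S₀)
  letI := SGA1Q.secAction (SymProd.permActU f' d) (baseOpen f' d S₀') (baseOpen_stable f' d S₀')
  intro z hz
  haveI : Module.Flat Γ(S', S₀') Γ(X', ⊤) := hflat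
  obtain ⟨-, hbij⟩ := isAffineOpen_baseOpen_and_bijective f' d h' hS'
  obtain ⟨y, rfl⟩ := hbij.2 z
  have hy : ∀ σ : Equiv.Perm (Fin d),
      PiTensorProduct.reindex Γ(S', S₀') (fun _ : Fin d => Γ(X', ⊤)) σ y = y := fun σ =>
    hbij.1 ((smul_powHom f' d h' ⟨σ⟩ (baseOpen_stable f' d S₀') y).symm.trans (hz _))
  let h₀ := (hX.appLE ⊤ ⊤ le_rfl).hom
  have hspan : Submodule.span Γ(S', S₀') (Set.range h₀) = ⊤ := by
    have := congrArg Subalgebra.toSubmodule hgen
    rw [Algebra.adjoin_eq_span, Algebra.top_toSubmodule] at this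
    have hc : Submonoid.closure (Set.range h₀) = MonoidHom.mrange (h₀ : Γ(X, ⊤) →* Γ(X', ⊤)) := by
      rw [← MonoidHom.coe_mrange]
      exact Submonoid.closure_eq _
    rwa [hc, MonoidHom.coe_mrange] at this
  have hmem := mem_span_orbitSum_of_invariant (fun a => h₀ a) hspan y hy
  have himg := Submodule.apply_mem_span_image_of_mem_span (powHom f' d h').toLinearMap hmem
  refine Submodule.span_le.2 ?_ himg
  rintro _ ⟨_, ⟨t, rfl⟩, rfl⟩
  refine Submodule.subset_span ⟨powHom f d h (∑ s ∈ tupleOrbit t,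
    PiTensorProduct.tprod Γ(S, S₀) s), fun g _ => ?_, ?_⟩
  · rw [smul_powHom f d h g (baseOpen_stable f d S₀)]
    simp only [map_sum, PiTensorProduct.reindex_tprod]
    exact sum_tupleOrbit_comp t g.down.symm
      (fun s => powHom f d h (PiTensorProduct.tprod Γ(S, S₀) s))
  · simp only [AlgHom.toLinearMap_apply, map_sum, powHom_tprod, map_prod]
    refine Finset.sum_congr rfl fun s _ => Finset.prod_congr rfl fun i _ => ?_
    show _ = ((hX.appLE ⊤ ⊤ le_rfl) ≫ proj f' d S₀' i).hom (s i)
    rw [← RingHom.comp_apply, ← CommRingCat.hom_comp, proj, proj, Scheme.Hom.appLE_comp_appLE,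
      Scheme.Hom.appLE_comp_appLE]
    exact congr(($(SGA1Q.appLE_congr_hom (powBC_π f f' hX hS w d i) _ _)).hom (s i))

/-- Sections of a chart: inverting one element. -/
theorem isAway_appLE {P Q : Scheme.{u}} (ψ : P ⟶ Q) {V : Q.Opens} (hV : IsAffineOpen V)
    (t : Γ(Q, V)) (O : P.Opens) [IsOpenImmersion (O.ι ≫ ψ)]
    (hrange : Set.range (O.ι ≫ ψ).base = (Q.basicOpen t : Set Q)) (e : O ≤ ψ ⁻¹ᵁ V) :
    IsAway (ψ.appLE V O e).hom t := by
  let j := O.ι ≫ ψ
  have hle : Q.basicOpen t ≤ V := Q.basicOpen_le t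
  have hOe : O ≤ ψ ⁻¹ᵁ Q.basicOpen t := fun z hz => by
    show ψ.base z ∈ (Q.basicOpen t : Set Q)
    rw [← hrange]
    exact ⟨⟨z, hz⟩, rfl⟩
  have hje : (⊤ : O.toScheme.Opens) ≤ j ⁻¹ᵁ Q.basicOpen t := fun z _ => hOe z.2
  haveI h1 : IsIso (j.appLE (Q.basicOpen t) ⊤ hje) := by
    haveI := j.isIso_app (Q.basicOpen t) (fun y hy => by
      show y ∈ Set.range j.base
      rw [hrange]
      exact hy)
    have htop : j ⁻¹ᵁ Q.basicOpen t = ⊤ := top_le_iff.1 hje
    rw [Scheme.Hom.appLE]
    haveI : IsIso (homOfLE hje : (⊤ : O.toScheme.Opens) ⟶ j ⁻¹ᵁ Q.basicOpen t) :=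
      ⟨homOfLE htop.le, Subsingleton.elim _ _, Subsingleton.elim _ _⟩
    infer_instance
  haveI : IsIso (ψ.appLE (Q.basicOpen t) O hOe) := by
    have : j.appLE (Q.basicOpen t) ⊤ hje =
        ψ.appLE (Q.basicOpen t) O hOe ≫ O.topIso.inv := by
      rw [← Scheme.Hom.appLE_comp_appLE O.ι ψ (Q.basicOpen t) O ⊤ hOe (fun z _ => z.2)]
      congr 1
      rw [Scheme.Opens.ι_appLE]
      rfl
    rw [this] at h1
    exact IsIso.of_isIso_comp_right _ O.topIso.inv
  set κ := ψ.appLE (Q.basicOpen t) O hOe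
  have hfac : Q.presheaf.map (homOfLE hle).op ≫ κ = ψ.appLE V O e := Scheme.Hom.map_appLE _ _ _
  letI := (Q.presheaf.map (homOfLE hle).op).hom.toAlgebra
  haveI : IsLocalization.Away t Γ(Q, Q.basicOpen t) :=
    hV.isLocalization_of_eq_basicOpen t (homOfLE hle) rfl
  have hb := ConcreteCategory.bijective_of_isIso κ
  refine ⟨?_, fun a ha => ?_, fun l => ?_⟩
  · rw [← hfac]
    exact (IsLocalization.Away.algebraMap_isUnit (S := Γ(Q, Q.basicOpen t)) t).map κ.hom
  · have h0 : algebraMap Γ(Q, V) Γ(Q, Q.basicOpen t) a = 0 := hb.1 (by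
      rw [map_zero, ← ha, ← hfac]
      rfl)
    rw [← map_zero (algebraMap Γ(Q, V) Γ(Q, Q.basicOpen t))] at h0
    obtain ⟨n, hn⟩ := IsLocalization.Away.exists_of_eq t h0
    exact ⟨n, by rw [hn, mul_zero]⟩
  · obtain ⟨l', rfl⟩ := hb.2 l
    obtain ⟨n, a, ha⟩ := IsLocalization.Away.surj t l'
    refine ⟨n, a, ?_⟩
    rw [← hfac]
    show _ * (κ.hom (algebraMap _ _ t)) ^ n = κ.hom (algebraMap _ _ a)
    rw [← ha, map_mul, map_pow]

end H9SymQ
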