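import Groth.Agent.H9SymQ.BC
import Mathlib.AlgebraicGeometry.Limits

/-!
# The invariants of a fibre power of a flat scheme are spanned by invariants from below
-/

set_option autoImplicit false
set_option backward.isDefEq.respectTransparency false
set_option backward.isDefEq.respectTransparency.types false

universe u

open CategoryTheory CategoryTheory.Limits AlgebraicGeometry TopologicalSpace

namespace H9SymQ

section General

variable {P Q : Scheme.{u}} {G : Type u} [Group G] {ρP : G →* Aut P} {ρQ : G →* Aut Q}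

open scoped Classical in
/-- The translation on the sections over an open, for the elements fixing it. -/
noncomputable def stableHom (ρ : G →* Aut P) (O : P.Opens) (g : G) : Γ(P, O) →+* Γ(P, O) :=
  if h : O ≤ (ρ g⁻¹).hom ⁻¹ᵁ O then ((ρ g⁻¹).hom.appLE O O h).hom else RingHom.id _

lemma stableHom_appLE (ψ : P ⟶ Q) (heq : ∀ g, (ρP g).hom ≫ ψ = ψ ≫ (ρQ g).hom) {V : Q.Opens}
    (hV : ∀ g : G, V ≤ (ρQ g).hom ⁻¹ᵁ V) {O : P.Opens} (e : O ≤ ψ ⁻¹ᵁ V) {g : G}
    (hO : O ≤ (ρP g⁻¹).hom ⁻¹ᵁ O) (a : Γ(Q, V)) :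
    letI := SGA1Q.secAction ρQ V hV
    stableHom ρP O g ((ψ.appLE V O e).hom a) = (ψ.appLE V O e).hom (g • a) := by
  rw [stableHom, dif_pos hO]
  show ((ρP g⁻¹).hom.appLE O O hO).hom _ = (ψ.appLE V O e).hom (((ρQ g⁻¹).hom.appLE V V (hV _)).hom a)
  rw [← RingHom.comp_apply, ← RingHom.comp_apply, ← CommRingCat.hom_comp, ← CommRingCat.hom_comp,
    Scheme.Hom.appLE_comp_appLE, Scheme.Hom.appLE_comp_appLE]
  exact congr(($(SGA1Q.appLE_congr_hom (heq g⁻¹) _ _)).hom a)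

lemma appLE_smul (ψ : P ⟶ Q) (heq : ∀ g, (ρP g).hom ≫ ψ = ψ ≫ (ρQ g).hom) {V : Q.Opens}
    (hV : ∀ g : G, V ≤ (ρQ g).hom ⁻¹ᵁ V) {W : P.Opens} (hW : ∀ g : G, W ≤ (ρP g).hom ⁻¹ᵁ W)
    (e : W ≤ ψ ⁻¹ᵁ V) (g : G) (a : Γ(Q, V)) :
    letI := SGA1Q.secAction ρQ V hV
    letI := SGA1Q.secAction ρP W hW
    (ψ.appLE V W e).hom (g • a) = g • (ψ.appLE V W e).hom a := by
  show (ψ.appLE V W e).hom (((ρQ g⁻¹).hom.appLE V V (hV _)).hom a) =
    ((ρP g⁻¹).hom.appLE W W (hW _)).hom ((ψ.appLE V W e).hom a)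
  rw [← RingHom.comp_apply, ← RingHom.comp_apply, ← CommRingCat.hom_comp, ← CommRingCat.hom_comp,
    Scheme.Hom.appLE_comp_appLE, Scheme.Hom.appLE_comp_appLE]
  exact congr(($(SGA1Q.appLE_congr_hom (heq g⁻¹).symm _ _)).hom a)

lemma smul_appLE_invariant {T : Scheme.{u}} (ψ : P ⟶ T) (hinv : ∀ g, (ρP g).hom ≫ ψ = ψ)
    {V : T.Opens} {W : P.Opens} (hW : ∀ g : G, W ≤ (ρP g).hom ⁻¹ᵁ W) (e : W ≤ ψ ⁻¹ᵁ V) (g : G)
    (r : Γ(T, V)) :
    letI := SGA1Q.secAction ρP W hW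
    g • (ψ.appLE V W e).hom r = (ψ.appLE V W e).hom r := by
  show ((ρP g⁻¹).hom.appLE W W (hW _)).hom ((ψ.appLE V W e).hom r) = _
  rw [← RingHom.comp_apply, ← CommRingCat.hom_comp, Scheme.Hom.appLE_comp_appLE]
  exact congr(($(SGA1Q.appLE_congr_hom (hinv g⁻¹) _ _)).hom r)

lemma mem_basicOpen_appLE (ψ : P ⟶ Q) {V : Q.Opens} {W : P.Opens} (e : W ≤ ψ ⁻¹ᵁ V) (a : Γ(Q, V))
    (z : P) : z ∈ P.basicOpen ((ψ.appLE V W e).hom a) ↔ z ∈ W ∧ ψ.base z ∈ Q.basicOpen a := by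
  rw [Scheme.Hom.appLE, CommRingCat.comp_apply, Scheme.basicOpen_res, ← Scheme.preimage_basicOpen]
  rfl

lemma isNilpotent_of_basicOpen_eq_bot {W : P.Opens} (hW : IsAffineOpen W) (a : Γ(P, W))
    (h : P.basicOpen a = ⊥) : IsNilpotent a := by
  rw [← PrimeSpectrum.basicOpen_eq_bot_iff]
  have := hW.fromSpec_preimage_basicOpen a
  rw [h] at this
  exact this.symm

end General

variable {X S X' S' : Scheme.{u}} (f : X ⟶ S) (f' : X' ⟶ S') (hX : X' ⟶ X) (hS : S' ⟶ S)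
  (w : hX ≫ f = f' ≫ hS) (d : ℕ)

/-- The affine pieces of the chart. -/
theorem exists_chart {S₀ : S.Opens} (x : Fin d → X) (hx : ∀ i, f.base (x i) ∈ S₀) :
    ∃ (U : Scheme.{u}) (_ : IsAffine U) (u : U ⟶ X) (C : Set.range x → U.Opens),
      ⊤ ≤ (u ≫ f) ⁻¹ᵁ S₀ ∧ iSup C = ⊤ ∧ (∀ j, IsOpenImmersion ((C j).ι ≫ u)) ∧
      (∀ j k, j ≠ k → Disjoint (C j : Set U) (C k)) ∧
      ∀ j, (j : X) ∈ Set.range ((C j).ι ≫ u).base := by
  classical
  have hmem : ∀ j : Set.range x, (j : X) ∈ f ⁻¹ᵁ S₀ := by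
    rintro ⟨_, i, rfl⟩
    exact hx i
  choose O hO hjO hOle using fun j : Set.range x =>
    exists_isAffineOpen_mem_and_subset (x := (j : X)) (U := f ⁻¹ᵁ S₀) (hmem j)
  let g : Set.range x → Scheme.{u} := fun j => (O j).toScheme
  haveI : ∀ j, IsAffine (g j) := hO
  haveI : Finite (Set.range x) := Set.finite_range x
  let u : (∐ g) ⟶ X := Sigma.desc fun j => (O j).ι
  let C : Set.range x → (∐ g).Opens := fun j => (Sigma.ι g j).opensRange
  have hfac : ∀ j, (C j).ι ≫ u = (Sigma.ι g j).isoOpensRange.inv ≫ (O j).ι := fun j => by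
    rw [← Iso.cancel_iso_hom_left (Sigma.ι g j).isoOpensRange, Iso.hom_inv_id_assoc,
      ← Category.assoc, Scheme.Hom.isoOpensRange_hom_ι, Sigma.ι_desc]
  have hcov : iSup C = ⊤ := (sigmaOpenCover g).iSup_opensRange
  refine ⟨∐ g, inferInstance, u, C, ?_, hcov, fun j => ?_, fun j k hjk => ?_, fun j => ?_⟩
  · intro z _
    have hz : z ∈ iSup C := hcov ▸ Opens.mem_top z
    obtain ⟨j, hj⟩ := Opens.mem_iSup.1 hz
    obtain ⟨y, rfl⟩ := hj
    have e := congr(($(Sigma.ι_desc (fun j => (O j).ι) j)).base y)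
    show f.base (u.base ((Sigma.ι g j).base y)) ∈ S₀
    rw [show u.base ((Sigma.ι g j).base y) = (O j).ι.base y from e]
    exact hOle j y.2
  · rw [hfac]
    infer_instance
  · have := disjoint_opensRange_sigmaι g j k hjk
    rw [Set.disjoint_iff_inter_eq_empty]
    exact congrArg (fun U : (∐ g).Opens => (U : Set ↥(∐ g))) (disjoint_iff.1 this)
  · rw [hfac, Scheme.Hom.comp_base, TopCat.coe_comp, Set.range_comp,
      Set.range_eq_univ.2 (Sigma.ι g j).isoOpensRange.inv.surjective, Set.image_univ,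
      Scheme.Opens.range_ι]
    exact hjO j

/-- The part of the base changed chart. -/
theorem exists_chart' [IsClosedImmersion (pullback.lift hX f' w)] [Flat f'] {S₀ : S.Opens}
    {S₀' : S'.Opens} (hS₀ : IsAffineOpen S₀) (hS₀' : IsAffineOpen S₀') (hle : S₀' ≤ hS ⁻¹ᵁ S₀)
    {U : Scheme.{u}} [IsAffine U] (u : U ⟶ X) (hu : ⊤ ≤ (u ≫ f) ⁻¹ᵁ S₀) {J : Type u}
    (C : J → U.Opens) (hcov : iSup C = ⊤) (hC : ∀ j, IsOpenImmersion ((C j).ι ≫ u)) :
    ∃ (U' : Scheme.{u}) (_ : IsAffine U') (u' : U' ⟶ X') (hU : U' ⟶ U)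
      (_ : u' ≫ hX = hU ≫ u) (hu' : ⊤ ≤ (u' ≫ f') ⁻¹ᵁ S₀'),
      ((u' ≫ f').appLE S₀' ⊤ hu').hom.Flat ∧
      (letI := algX (u' ≫ f') hu'
       Algebra.adjoin Γ(S', S₀') (Set.range (hU.appLE ⊤ ⊤ le_rfl).hom) = ⊤) ∧
      ∀ j, IsOpenImmersion ((hU ⁻¹ᵁ C j).ι ≫ u') ∧
        ∀ x' : X', hX.base x' ∈ Set.range ((C j).ι ≫ u).base → f'.base x' ∈ S₀' →
          x' ∈ Set.range ((hU ⁻¹ᵁ C j).ι ≫ u').base := by
  let c := pullback.lift hX f' w
  let P := pullback u hX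
  let a := pullback.fst u hX
  let b := pullback.snd u hX
  -- the closed immersion into the base change of `U`
  let jU : P ⟶ pullback (u ≫ f) hS := pullback.lift a (b ≫ f') (by
    rw [← Category.assoc, pullback.condition, Category.assoc, w, Category.assoc])
  let q : pullback (u ≫ f) hS ⟶ pullback f hS := pullback.map (u ≫ f) hS f hS u (𝟙 _) (𝟙 _)
    (by simp) (by simp)
  have sq1 : IsPullback q (pullback.fst (u ≫ f) hS) (pullback.fst f hS) u := by
    refine IsPullback.of_right ?_ (pullback.lift_fst _ _ _) (IsPullback.of_hasPullback f hS).flip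
    have : q ≫ pullback.snd f hS = pullback.snd (u ≫ f) hS := by simp [q]
    rw [this]
    exact (IsPullback.of_hasPullback (u ≫ f) hS).flip
  have sq2 : IsPullback jU b q c := by
    refine IsPullback.of_right ?_ ?_ sq1.flip
    · rw [pullback.lift_fst]
      have : c ≫ pullback.fst f hS = hX := pullback.lift_fst _ _ _
      rw [this]
      exact IsPullback.of_hasPullback u hX
    · apply pullback.hom_ext
      · rw [Category.assoc, pullback.lift_fst, ← Category.assoc, pullback.lift_fst, Category.assoc,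
          pullback.lift_fst]
        exact pullback.condition
      · rw [Category.assoc, pullback.lift_snd, Category.comp_id, pullback.lift_snd, Category.assoc,
          pullback.lift_snd]
  haveI : IsClosedImmersion jU :=
    MorphismProperty.of_isPullback (P := @IsClosedImmersion) sq2.flip inferInstance
  obtain ⟨hUa, hgen⟩ := isAffineOpen_and_adjoin_eq_top jU a (b ≫ f') (pullback.lift_fst _ _ _)
    (pullback.lift_snd _ _ _) hS₀ hS₀' (isAffineOpen_top U) hu hle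
  set O : P.Opens := a ⁻¹ᵁ ⊤ ⊓ (b ≫ f') ⁻¹ᵁ S₀' with hO
  haveI : IsAffine O.toScheme := hUa
  have hu' : ⊤ ≤ ((O.ι ≫ b) ≫ f') ⁻¹ᵁ S₀' := fun z _ => by
    have h1 : O.ι.base z ∈ O := z.2
    exact h1.2
  have hopen : ∀ j, IsOpenImmersion (((O.ι ≫ a) ⁻¹ᵁ C j).ι ≫ O.ι ≫ b) := by
    intro j
    haveI := hC j
    have hsq : IsPullback (a ∣_ C j) ((a ⁻¹ᵁ C j).ι ≫ b) ((C j).ι ≫ u) hX :=
      (isPullback_morphismRestrict a (C j)).paste_vert (IsPullback.of_hasPullback u hX)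
    haveI : IsOpenImmersion ((a ⁻¹ᵁ C j).ι ≫ b) :=
      MorphismProperty.of_isPullback (P := @IsOpenImmersion) hsq inferInstance
    have hfac : ((O.ι ≫ a) ⁻¹ᵁ C j).ι ≫ O.ι ≫ b =
        (O.ι ∣_ (a ⁻¹ᵁ C j)) ≫ (a ⁻¹ᵁ C j).ι ≫ b := by
      rw [← Category.assoc (O.ι ∣_ (a ⁻¹ᵁ C j)), morphismRestrict_ι, Category.assoc]
      rfl
    rw [hfac]
    haveI : IsOpenImmersion (O.ι ∣_ (a ⁻¹ᵁ C j)) :=
      IsZariskiLocalAtTarget.restrict (P := @IsOpenImmersion) inferInstance _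
    infer_instance
  refine ⟨O.toScheme, inferInstance, O.ι ≫ b, O.ι ≫ a, by
    rw [Category.assoc, Category.assoc, pullback.condition], hu', ?_, ?_, fun j => ⟨hopen j, ?_⟩⟩
  · haveI : Flat ((O.ι ≫ b) ≫ f') := by
      have hcov' : ⨆ j, (O.ι ≫ a) ⁻¹ᵁ C j = ⊤ := by
        rw [← Scheme.Hom.preimage_iSup, hcov, Scheme.Hom.preimage_top]
      refine (IsZariskiLocalAtSource.iff_of_iSup_eq_top (P := @Flat) _ hcov').2 fun j => ?_
      haveI := hopen j
      rw [← Category.assoc]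
      infer_instance
    exact ((O.ι ≫ b) ≫ f').flat_appLE hS₀' (isAffineOpen_top _) hu'
  · letI := algX ((O.ι ≫ b) ≫ f') hu'
    letI := ((b ≫ f').appLE S₀' O inf_le_right).hom.toAlgebra
    let e : Γ(P, O) →ₐ[Γ(S', S₀')] Γ(O.toScheme, ⊤) :=
      { (O.ι.appLE O ⊤ (fun z _ => z.2)).hom with
        commutes' := fun r => by
          show (O.ι.appLE O ⊤ _).hom (((b ≫ f').appLE S₀' O _).hom r) = (((O.ι ≫ b) ≫ f').appLE S₀' ⊤ _).hom r
          rw [← RingHom.comp_apply, ← CommRingCat.hom_comp, Scheme.Hom.appLE_comp_appLE]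
          exact congr(($(SGA1Q.appLE_congr_hom (Category.assoc O.ι b f').symm _ _)).hom r) }
    have he : Function.Surjective e := by
      haveI : IsIso (O.ι.appLE O ⊤ (fun z _ => z.2)) := by
        rw [Scheme.Opens.ι_appLE]
        exact (inferInstance : IsIso O.topIso.inv)
      exact (ConcreteCategory.bijective_of_isIso (O.ι.appLE O ⊤ _)).2
    have := congrArg (Subalgebra.map e) hgen
    rw [AlgHom.map_adjoin, Algebra.map_top, (AlgHom.range_eq_top e).2 he, ← Set.range_comp] at this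
    refine Eq.trans ?_ this
    congr 1
    ext y
    constructor <;> rintro ⟨m, rfl⟩ <;> refine ⟨m, ?_⟩
    · show (O.ι.appLE O ⊤ _).hom ((a.appLE ⊤ O _).hom m) = _
      rw [← RingHom.comp_apply, ← CommRingCat.hom_comp, Scheme.Hom.appLE_comp_appLE]
    · show _ = (O.ι.appLE O ⊤ _).hom ((a.appLE ⊤ O _).hom m)
      rw [← RingHom.comp_apply, ← CommRingCat.hom_comp, Scheme.Hom.appLE_comp_appLE]
  · intro x' hx' hfx'
    obtain ⟨z₀, hz₀⟩ := hx'
    obtain ⟨p, hp1, hp2⟩ := Scheme.Pullback.exists_preimage_pullback (f := u) (g := hX)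
      ((C j).ι.base z₀) x' hz₀
    have hpO : p ∈ O := ⟨trivial, by
      show f'.base (b.base p) ∈ S₀'
      rw [show b.base p = x' from hp2]
      exact hfx'⟩
    refine ⟨⟨⟨p, hpO⟩, ?_⟩, hp2⟩
    show a.base p ∈ C j
    rw [show a.base p = (C j).ι.base z₀ from hp1]
    exact z₀.2

/-- The action is by coordinates. -/
lemma π_permActU_apply (f : X ⟶ S) (d : ℕ) (g : ULift.{u} (Equiv.Perm (Fin d))) (i : Fin d)
    (z : SymProd.fibPow f d) :
    (WidePullback.π (fun _ : Fin d => f) i).base ((SymProd.permActU f d g).hom.base z) =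
      (WidePullback.π (fun _ : Fin d => f) (g.down.symm i)).base z :=
  congr(($(SymProd.permHom_π f d g.down i)).base z)

lemma permActU_powMap (f : X ⟶ S) {U : Scheme.{u}} (u : U ⟶ X) (d : ℕ)
    (g : ULift.{u} (Equiv.Perm (Fin d))) :
    (SymProd.permActU (u ≫ f) d g).hom ≫ powMap f u d =
      powMap f u d ≫ (SymProd.permActU f d g).hom := by
  apply WidePullback.hom_ext
  · intro i
    simp only [Category.assoc, SymProd.permActU_hom, SymProd.fibPowMap_π, SymProd.permHom_π,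
      SymProd.permHom_π_assoc]
  · simp only [Category.assoc, SymProd.permActU_hom, SymProd.fibPowMap_base, SymProd.permHom_base,
      SymProd.permHom_base_assoc]

lemma preimage_inf_stable {V : (SymProd.fibPow f d).Opens}
    (hV : ∀ g, V ≤ (SymProd.permActU f d g).hom ⁻¹ᵁ V) (S₀' : S'.Opens)
    (g : ULift.{u} (Equiv.Perm (Fin d))) :
    powBC f f' hX hS w d ⁻¹ᵁ V ⊓ baseOpen f' d S₀' ≤
      (SymProd.permActU f' d g).hom ⁻¹ᵁ (powBC f f' hX hS w d ⁻¹ᵁ V ⊓ baseOpen f' d S₀') := by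
  rintro z ⟨h1, h2⟩
  refine ⟨?_, baseOpen_stable f' d S₀' g h2⟩
  show (powBC f f' hX hS w d).base ((SymProd.permActU f' d g).hom.base z) ∈ V
  rw [show (powBC f f' hX hS w d).base ((SymProd.permActU f' d g).hom.base z) =
    (SymProd.permActU f d g).hom.base ((powBC f f' hX hS w d).base z) from
      congr(($(permHom_powBC f f' hX hS w d g.down)).base z)]
  exact hV g h1

set_option maxHeartbeats 1600000 in
/-- **Invariants of the flat fibre power are spanned by the images of invariants.** -/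
theorem mem_invSpan_powBC [IsClosedImmersion (pullback.lift hX f' w)] [Flat f'] {S₀ : S.Opens}
    {S₀' : S'.Opens} (hS₀ : IsAffineOpen S₀) (hS₀' : IsAffineOpen S₀') (hle : S₀' ≤ hS ⁻¹ᵁ S₀)
    {V : (SymProd.fibPow f d).Opens} (hV : IsAffineOpen V)
    (hVs : ∀ g, V ≤ (SymProd.permActU f d g).hom ⁻¹ᵁ V) (hVS : V ≤ baseOpen f d S₀) :
    letI := ((WidePullback.base (fun _ : Fin d => f')).appLE S₀'
      (powBC f f' hX hS w d ⁻¹ᵁ V ⊓ baseOpen f' d S₀') inf_le_right).hom.toAlgebra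
    letI := SGA1Q.secAction (SymProd.permActU f d) V hVs
    letI := SGA1Q.secAction (SymProd.permActU f' d)
      (powBC f f' hX hS w d ⁻¹ᵁ V ⊓ baseOpen f' d S₀') (preimage_inf_stable f f' hX hS w d hVs S₀')
    ∀ y : Γ(SymProd.fibPow f' d, powBC f f' hX hS w d ⁻¹ᵁ V ⊓ baseOpen f' d S₀'),
      (∀ g : ULift.{u} (Equiv.Perm (Fin d)), g • y = y) →
      y ∈ invSpan Γ(S', S₀') ((powBC f f' hX hS w d).appLE V
        (powBC f f' hX hS w d ⁻¹ᵁ V ⊓ baseOpen f' d S₀') inf_le_left).hom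
        (⊤ : Subgroup (ULift.{u} (Equiv.Perm (Fin d)))) := by
  classical
  letI := ((WidePullback.base (fun _ : Fin d => f')).appLE S₀'
    (powBC f f' hX hS w d ⁻¹ᵁ V ⊓ baseOpen f' d S₀') inf_le_right).hom.toAlgebra
  letI := SGA1Q.secAction (SymProd.permActU f d) V hVs
  letI := SGA1Q.secAction (SymProd.permActU f' d)
    (powBC f f' hX hS w d ⁻¹ᵁ V ⊓ baseOpen f' d S₀') (preimage_inf_stable f f' hX hS w d hVs S₀')
  let φ := powBC f f' hX hS w d
  let ρ := SymProd.permActU f d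
  let ρ' := SymProd.permActU f' d
  have hφ : ∀ g, (ρ' g).hom ≫ φ = φ ≫ (ρ g).hom := fun g => permHom_powBC f f' hX hS w d g.down
  obtain ⟨hV', hgen⟩ := isAffineOpen_and_adjoin_eq_top (jPow f f' hX hS w d) φ
    (WidePullback.base (fun _ : Fin d => f')) (pullback.lift_fst _ _ _) (pullback.lift_snd _ _ _)
    hS₀ hS₀' hV hVS hle
  intro y hy
  refine mem_invSpan_of_local
    (fun g a => appLE_smul φ hφ hVs (preimage_inf_stable f f' hX hS w d hVs S₀') inf_le_left g a)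
    (fun g r => smul_appLE_invariant (WidePullback.base (fun _ : Fin d => f'))
      (fun g => SymProd.permHom_base f' d g.down) (preimage_inf_stable f f' hX hS w d hVs S₀')
      inf_le_right g r)
    hgen ?_ y hy
  intro q hq
  -- the point
  let w' := hV'.fromSpec.base (⟨q, hq⟩ : PrimeSpectrum _)
  have hw'V : w' ∈ φ ⁻¹ᵁ V ⊓ baseOpen f' d S₀' := by
    show w' ∈ ((φ ⁻¹ᵁ V ⊓ baseOpen f' d S₀' : (SymProd.fibPow f' d).Opens) : Set _)
    rw [← hV'.range_fromSpec]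
    exact ⟨_, rfl⟩
  have hmem : ∀ a, a ∈ q ↔ w' ∉ (SymProd.fibPow f' d).basicOpen a := by
    intro a
    have e : (hV'.fromSpec ⁻¹ᵁ (SymProd.fibPow f' d).basicOpen a) =
        PrimeSpectrum.basicOpen a := hV'.fromSpec_preimage_basicOpen a
    have : w' ∈ (SymProd.fibPow f' d).basicOpen a ↔ a ∉ q := by
      show (⟨q, hq⟩ : PrimeSpectrum _) ∈ (hV'.fromSpec ⁻¹ᵁ (SymProd.fibPow f' d).basicOpen a) ↔ _
      rw [e]
      rfl
    rw [this, not_not]
  let w₀ := φ.base w'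
  let x : Fin d → X := fun i => (WidePullback.π (fun _ : Fin d => f) i).base w₀
  have hw₀V : w₀ ∈ V := hw'V.1
  have hx : ∀ i, f.base (x i) ∈ S₀ := fun i => by
    have e := congr(($(WidePullback.π_arrow (fun _ : Fin d => f) i)).base w₀)
    exact (show _ = _ from e).symm ▸ hVS hw₀V
  obtain ⟨U, hUaff, u, C, hu, hcov, hC, hdis, hjC⟩ := exists_chart f d x hx
  haveI := hUaff
  obtain ⟨U', hU'aff, u', hU, hsq, hu', hflat, hgenU, hC'⟩ :=
    exists_chart' f f' hX hS w hS₀ hS₀' hle u hu C hcov hC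
  haveI := hU'aff
  let c : Fin d → Set.range x := Set.rangeFactorization x
  let H : Subgroup (ULift.{u} (Equiv.Perm (Fin d))) :=
    { carrier := {g | ∀ i, c (g.down i) = c i}
      one_mem' := fun i => rfl
      mul_mem' := fun {a b} ha hb i => (ha _).trans (hb i)
      inv_mem' := fun {a} ha i => by
        have := ha (a.down.symm i)
        rw [Equiv.apply_symm_apply] at this
        exact this.symm }
  have hHsymm : ∀ h ∈ H, ∀ i, c (h.down.symm i) = c i := fun h hh i => inv_mem hh i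
  -- the maps of fibre powers
  let ψ := powMap f u d
  let ψ' := powMap f' u' d
  have wU : hU ≫ u ≫ f = (u' ≫ f') ≫ hS := by rw [← reassoc_of% hsq, w, Category.assoc]
  let φU := powBC (u ≫ f) (u' ≫ f') hU hS wU d
  let ρU := SymProd.permActU (u ≫ f) d
  let ρU' := SymProd.permActU (u' ≫ f') d
  have hφU : ∀ g, (ρU' g).hom ≫ φU = φU ≫ (ρU g).hom := fun g => permHom_powBC _ _ _ _ _ d g.down
  have hψ : ∀ g, (ρU g).hom ≫ ψ = ψ ≫ (ρ g).hom := fun g => permActU_powMap f u d g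
  have hψ' : ∀ g, (ρU' g).hom ≫ ψ' = ψ' ≫ (ρ' g).hom := fun g => permActU_powMap f' u' d g
  have hcomm : φU ≫ ψ = ψ' ≫ φ := by
    apply WidePullback.hom_ext
    · intro i
      rw [Category.assoc, SymProd.fibPowMap_π, Category.assoc, powBC_π, powBC_π_assoc,
        SymProd.fibPowMap_π_assoc, hsq]
    · rw [Category.assoc, SymProd.fibPowMap_base, Category.assoc, powBC_base, powBC_base,
        SymProd.fibPowMap_base_assoc]
  let T₀ := baseOpen (u ≫ f) d S₀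
  let T₀' := baseOpen (u' ≫ f') d S₀'
  obtain ⟨hT₀, -⟩ := isAffineOpen_baseOpen_and_bijective (u ≫ f) d hu hS₀
  letI := algPow (u' ≫ f') d S₀'
  letI := SGA1Q.secAction ρU T₀ (baseOpen_stable (u ≫ f) d S₀)
  letI := SGA1Q.secAction ρU' T₀' (baseOpen_stable (u' ≫ f') d S₀')
  let W := prodOpen (u ≫ f) (C ∘ c)
  haveI : ∀ i, IsOpenImmersion (((C ∘ c) i).ι ≫ u) := fun i => hC (c i)
  obtain ⟨hWoi, hWrange⟩ := isOpenImmersion_prodOpen f u (C ∘ c)
  haveI := hWoi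
  have hinj : ∀ {z z'}, z ∈ W → z' ∈ W → ψ.base z = ψ.base z' → z = z' := by
    intro z z' hz hz' h
    have := (W.ι ≫ ψ).isOpenEmbedding.injective
      (a₁ := ⟨z, hz⟩) (a₂ := ⟨z', hz'⟩) h
    exact congrArg Subtype.val this
  -- the lift of the point
  obtain ⟨⟨wt, hwt⟩, hψwt⟩ : ∃ z : W, (W.ι ≫ ψ).base z = w₀ := by
    show w₀ ∈ Set.range (W.ι ≫ ψ).base
    rw [hWrange]
    exact mem_prodOpen.2 fun i => hjC (c i)
  replace hψwt : ψ.base wt = w₀ := hψwt
  have hψb : ∀ z, (WidePullback.base (fun _ : Fin d => f)).base (ψ.base z) =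
      (WidePullback.base (fun _ : Fin d => u ≫ f)).base z :=
    fun z => congr(($(SymProd.fibPowMap_base (u ≫ f) d f u rfl)).base z)
  have hwtT : wt ∈ T₀ := by
    show (WidePullback.base (fun _ : Fin d => u ≫ f)).base wt ∈ S₀
    rw [← hψb, hψwt]
    exact hVS hw₀V
  have hψg : ∀ g z, ψ.base ((ρU g).hom.base z) = (ρ g).hom.base (ψ.base z) :=
    fun g z => congr(($(hψ g)).base z)
  have hρW : ∀ h ∈ H, ∀ z ∈ W, (ρU h).hom.base z ∈ W := by
    intro h hh z hz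
    refine mem_prodOpen.2 fun i => ?_
    rw [π_permActU_apply]
    have := mem_prodOpen.1 hz (h.down.symm i)
    simpa only [Function.comp_apply, hHsymm h hh i] using this
  -- avoid the other translates
  let E : Set (SymProd.fibPow f d) := ⋃ g ∈ {g | g ∉ H}, closure {(ρ g).hom.base w₀}
  have hEc : IsClosed E := (Set.toFinite _).isClosed_biUnion fun g _ => isClosed_closure
  have hnotE : ∀ h ∈ H, (ρ h).hom.base w₀ ∉ E := by
    intro h hh hmemE
    obtain ⟨g, hg, hcl⟩ := Set.mem_iUnion₂.1 hmemE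
    refine not_mem_closure_of_ne (ρ := ρ) (g * h⁻¹) ?_ ?_ hcl
    · rw [SGA1Q.hom_mul_apply, inv_mul_cancel_right]
    · intro heq
      refine hg fun i => ?_
      have e1 := congrArg (fun z => (WidePullback.π (fun _ : Fin d => f) (g.down i)).base z) heq
      simp only [π_permActU_apply, ρ] at e1
      rw [Equiv.symm_apply_apply] at e1
      have e2 : c i = c (h.down.symm (g.down i)) := Subtype.ext e1
      rw [hHsymm h hh] at e2
      exact e2.symm
  let Ω₁ : (SymProd.fibPow f d).Opens := V ⊓ ⟨Eᶜ, hEc.isOpen_compl⟩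
  obtain ⟨t₀, ht₀, ht₀le, hwt₀⟩ := exists_fixed_basicOpen hT₀ (baseOpen_stable (u ≫ f) d S₀) H
    (ψ ⁻¹ᵁ Ω₁ ⊓ W) wt hwtT (fun h hh => ⟨by
      show ψ.base ((ρU h).hom.base wt) ∈ Ω₁
      rw [hψg, hψwt]
      exact ⟨hVs h hw₀V, hnotE h hh⟩, hρW h hh wt hwt⟩)
  let O₀ := (SymProd.fibPow (u ≫ f) d).basicOpen t₀
  have hO₀W : O₀ ≤ W := fun z hz => (ht₀le hz).2
  have hO₀T : O₀ ≤ T₀ := (SymProd.fibPow (u ≫ f) d).basicOpen_le t₀
  have hO₀V : O₀ ≤ ψ ⁻¹ᵁ V := fun z hz => (ht₀le hz).1.1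
  have hO₀E : ∀ z ∈ O₀, ψ.base z ∉ E := fun z hz => (ht₀le hz).1.2
  have hO₀H : ∀ h ∈ H, O₀ ≤ (ρU h⁻¹).hom ⁻¹ᵁ O₀ := by
    intro h hh z hz
    have hzT : z ∈ T₀ := hO₀T hz
    exact (mem_basicOpen_smul (baseOpen_stable (u ≫ f) d S₀) h t₀ hzT).1 (by rw [ht₀ h hh]; exact hz)
  let Ω : (SymProd.fibPow f d).Opens := (W.ι ≫ ψ) ''ᵁ (W.ι ⁻¹ᵁ O₀)
  have hΩ : ∀ {z}, z ∈ O₀ → ψ.base z ∈ Ω := fun {z} hz => ⟨⟨z, hO₀W hz⟩, hz, rfl⟩
  obtain ⟨t, ht, htle, hwt'⟩ := exists_fixed_basicOpen hV hVs H Ω w₀ hw₀V (fun h hh => by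
    rw [← hψwt, ← hψg]
    refine hΩ ?_
    have := hO₀H h⁻¹ (inv_mem hh) hwt₀
    rwa [inv_inv] at this)
  -- the matching element of the chart
  have hres : IsAway ((𝟙 (SymProd.fibPow (u ≫ f) d) : _ ⟶ _).appLE T₀ O₀ hO₀T).hom t₀ := by
    haveI : IsOpenImmersion (O₀.ι ≫ 𝟙 (SymProd.fibPow (u ≫ f) d)) := inferInstance
    refine isAway_appLE _ hT₀ t₀ O₀ ?_ hO₀T
    rw [Category.comp_id, Scheme.Opens.range_ι]
  obtain ⟨n, b, hb, hbe⟩ := hres.exists_fixed H ht₀ (stableHom ρU O₀)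
    (fun h hh a => stableHom_appLE (ρQ := ρU) _ (fun g => by rw [Category.comp_id, Category.id_comp])
      (baseOpen_stable (u ≫ f) d S₀) hO₀T (hO₀H h hh) a)
    ((ψ.appLE V O₀ hO₀V).hom t)
    (fun h hh => by rw [stableHom_appLE ψ hψ hVs hO₀V (hO₀H h hh), ht h hh])
  let t' := t₀ * b
  have ht' : ∀ h ∈ H, h • t' = t' := fun h hh => by rw [smul_mul', ht₀ h hh, hb h hh]
  let O := (SymProd.fibPow (u ≫ f) d).basicOpen t'
  have hOmem : ∀ z, z ∈ O ↔ z ∈ O₀ ∧ ψ.base z ∈ (SymProd.fibPow f d).basicOpen t := by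
    intro z
    show z ∈ (SymProd.fibPow (u ≫ f) d).basicOpen (t₀ * b) ↔ _
    rw [Scheme.basicOpen_mul, Opens.mem_inf]
    refine and_congr_right fun hz => ?_
    have hbb : z ∈ (SymProd.fibPow (u ≫ f) d).basicOpen b ↔
        z ∈ (SymProd.fibPow (u ≫ f) d).basicOpen
          (((𝟙 (SymProd.fibPow (u ≫ f) d) : _ ⟶ _).appLE T₀ O₀ hO₀T).hom b) := by
      rw [mem_basicOpen_appLE]
      exact ⟨fun h => ⟨hz, h⟩, fun h => h.2⟩
    rw [hbb, ← hbe, Scheme.basicOpen_mul, Opens.mem_inf, mem_basicOpen_appLE]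
    refine ⟨fun h => h.1.2, fun h => ⟨⟨hz, h⟩, ?_⟩⟩
    rw [Scheme.basicOpen_of_isUnit _ (hres.isUnit.pow n)]
    exact hz
  have hOW : O ≤ W := fun z hz => hO₀W ((hOmem z).1 hz).1
  have hOT : O ≤ T₀ := (SymProd.fibPow (u ≫ f) d).basicOpen_le t'
  have hOV : O ≤ ψ ⁻¹ᵁ V := fun z hz => hO₀V ((hOmem z).1 hz).1
  have hOH : ∀ h ∈ H, O ≤ (ρU h⁻¹).hom ⁻¹ᵁ O := by
    intro h hh z hz
    exact (mem_basicOpen_smul (baseOpen_stable (u ≫ f) d S₀) h t' (hOT hz)).1 (by rw [ht' h hh]; exact hz)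
  haveI hOoi : IsOpenImmersion (O.ι ≫ ψ) := by
    rw [← Scheme.homOfLE_ι _ hOW, Category.assoc]
    infer_instance
  have hOrange : Set.range (O.ι ≫ ψ).base = ((SymProd.fibPow f d).basicOpen t : Set _) := by
    apply subset_antisymm
    · rintro _ ⟨z, rfl⟩
      exact ((hOmem _).1 z.2).2
    · intro p hp
      obtain ⟨z, hz, rfl⟩ := htle hp
      exact ⟨⟨_, (hOmem _).2 ⟨hz, hp⟩⟩, rfl⟩
  have hα : IsAway (ψ.appLE V O hOV).hom t := isAway_appLE ψ hV t O hOrange hOV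
  have hβ : IsAway ((𝟙 (SymProd.fibPow (u ≫ f) d) : _ ⟶ _).appLE T₀ O hOT).hom t' := by
    haveI : IsOpenImmersion (O.ι ≫ 𝟙 (SymProd.fibPow (u ≫ f) d)) := inferInstance
    refine isAway_appLE _ hT₀ t' O ?_ hOT
    rw [Category.comp_id, Scheme.Opens.range_ι]
  -- over the new base
  have hTle : T₀' ≤ φU ⁻¹ᵁ T₀ := preimage_baseOpen_le _ _ _ _ _ d hle
  let χ := (φU.appLE T₀ T₀' hTle).hom
  let O' := (SymProd.fibPow (u' ≫ f') d).basicOpen (χ t')
  have hO'mem : ∀ z, z ∈ O' ↔ z ∈ T₀' ∧ φU.base z ∈ O := fun z => mem_basicOpen_appLE φU hTle t' z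
  let W' := prodOpen (u' ≫ f') (fun i => hU ⁻¹ᵁ C (c i))
  haveI := fun i => (hC' (c i)).1
  obtain ⟨hW'oi, hW'range⟩ := isOpenImmersion_prodOpen f' u' (fun i => hU ⁻¹ᵁ C (c i))
  haveI := hW'oi
  have hπU : ∀ i z, (WidePullback.π (fun _ : Fin d => u ≫ f) i).base (φU.base z) =
      hU.base ((WidePullback.π (fun _ : Fin d => u' ≫ f') i).base z) :=
    fun i z => congr(($(powBC_π (u ≫ f) (u' ≫ f') hU hS wU d i)).base z)
  have hW'φ : ∀ z, z ∈ W' ↔ φU.base z ∈ W := by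
    intro z
    simp only [W, W', mem_prodOpen, Function.comp_apply, hπU]
    rfl
  have hO'W' : O' ≤ W' := fun z hz => (hW'φ z).2 (hOW ((hO'mem z).1 hz).2)
  have hO'T : O' ≤ T₀' := fun z hz => ((hO'mem z).1 hz).1
  have hO'O : O' ≤ φU ⁻¹ᵁ O := fun z hz => ((hO'mem z).1 hz).2
  have hcommp : ∀ z, ψ.base (φU.base z) = φ.base (ψ'.base z) := fun z => congr(($hcomm).base z)
  have hψ'b : ∀ z, (WidePullback.base (fun _ : Fin d => f')).base (ψ'.base z) =
      (WidePullback.base (fun _ : Fin d => u' ≫ f')).base z :=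
    fun z => congr(($(SymProd.fibPowMap_base (u' ≫ f') d f' u' rfl)).base z)
  have hO'V : O' ≤ ψ' ⁻¹ᵁ (φ ⁻¹ᵁ V ⊓ baseOpen f' d S₀') := by
    intro z hz
    refine ⟨?_, ?_⟩
    · show φ.base (ψ'.base z) ∈ V
      rw [← hcommp]
      exact hOV (hO'O hz)
    · show (WidePullback.base (fun _ : Fin d => f')).base (ψ'.base z) ∈ S₀'
      rw [hψ'b]
      exact hO'T hz
  haveI hO'oi : IsOpenImmersion (O'.ι ≫ ψ') := by
    rw [← Scheme.homOfLE_ι _ hO'W', Category.assoc]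
    infer_instance
  have hO'range : Set.range (O'.ι ≫ ψ').base =
      ((SymProd.fibPow f' d).basicOpen ((φ.appLE V (φ ⁻¹ᵁ V ⊓ baseOpen f' d S₀') inf_le_left).hom t) : Set _) := by
    ext p
    rw [SetLike.mem_coe, mem_basicOpen_appLE]
    constructor
    · rintro ⟨z, rfl⟩
      refine ⟨hO'V z.2, ?_⟩
      show φ.base (ψ'.base z.1) ∈ _
      rw [← hcommp]
      exact ((hOmem _).1 (hO'O z.2)).2
    · rintro ⟨hpV, hpt⟩
      obtain ⟨o, ho, hoe⟩ := htle hpt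
      replace hoe : ψ.base o.1 = φ.base p := hoe
      have hoO : o.1 ∈ O := (hOmem _).2 ⟨ho, by rw [hoe]; exact hpt⟩
      have hpr : p ∈ Set.range (W'.ι ≫ ψ').base := by
        rw [hW'range]
        refine mem_prodOpen.2 fun i => (hC' (c i)).2 _ ?_ ?_
        · rw [show hX.base ((WidePullback.π (fun _ : Fin d => f') i).base p) =
            (WidePullback.π (fun _ : Fin d => f) i).base (φ.base p) from
              (congr(($(powBC_π f f' hX hS w d i)).base p)).symm, ← hoe]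
          refine ⟨⟨_, mem_prodOpen.1 (hOW hoO) i⟩, ?_⟩
          exact (congr(($(SymProd.fibPowMap_π (u ≫ f) d f u rfl i)).base o.1)).symm
        · rw [show f'.base ((WidePullback.π (fun _ : Fin d => f') i).base p) =
            (WidePullback.base (fun _ : Fin d => f')).base p from
              congr(($(WidePullback.π_arrow (fun _ : Fin d => f') i)).base p)]
          exact hpV.2
      obtain ⟨⟨z, hz⟩, rfl⟩ := hpr
      refine ⟨⟨z, (hO'mem z).2 ⟨?_, ?_⟩⟩, rfl⟩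
      · show (WidePullback.base (fun _ : Fin d => u' ≫ f')).base z ∈ S₀'
        rw [← hψ'b]
        exact hpV.2
      · rw [hinj ((hW'φ z).1 hz) (hOW hoO) (by rw [hoe, hcommp]; rfl)]
        exact hoO
  letI algL := ((WidePullback.base (fun _ : Fin d => u' ≫ f')).appLE S₀' O' hO'T).hom.toAlgebra
  let α' : Γ(SymProd.fibPow f' d, φ ⁻¹ᵁ V ⊓ baseOpen f' d S₀') →ₐ[Γ(S', S₀')]
      Γ(SymProd.fibPow (u' ≫ f') d, O') :=
    { (ψ'.appLE (φ ⁻¹ᵁ V ⊓ baseOpen f' d S₀') O' hO'V).hom with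
      commutes' := fun r => by
        show (ψ'.appLE (φ ⁻¹ᵁ V ⊓ baseOpen f' d S₀') O' hO'V).hom (((WidePullback.base (fun _ : Fin d => f')).appLE S₀'
            (φ ⁻¹ᵁ V ⊓ baseOpen f' d S₀') inf_le_right).hom r) = _
        rw [← RingHom.comp_apply, ← CommRingCat.hom_comp, Scheme.Hom.appLE_comp_appLE]
        exact congr(($(SGA1Q.appLE_congr_hom
          (SymProd.fibPowMap_base (u' ≫ f') d f' u' rfl) _ _)).hom r) }
  let β' : Γ(SymProd.fibPow (u' ≫ f') d, T₀') →ₐ[Γ(S', S₀')]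
      Γ(SymProd.fibPow (u' ≫ f') d, O') :=
    { ((𝟙 (SymProd.fibPow (u' ≫ f') d) : _ ⟶ _).appLE T₀' O' hO'T).hom with
      commutes' := fun r => by
        show ((𝟙 (SymProd.fibPow (u' ≫ f') d) : _ ⟶ _).appLE T₀' O' hO'T).hom
          (((WidePullback.base (fun _ : Fin d => u' ≫ f')).appLE S₀' T₀' le_rfl).hom r) = _
        rw [← RingHom.comp_apply, ← CommRingCat.hom_comp, Scheme.Hom.appLE_comp_appLE]
        exact congr(($(SGA1Q.appLE_congr_hom (Category.id_comp _) _ _)).hom r) }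
  obtain ⟨hT₀', -⟩ := isAffineOpen_baseOpen_and_bijective (u' ≫ f') d hu' hS₀'
  have hα' : IsAway α'.toRingHom ((φ.appLE V (φ ⁻¹ᵁ V ⊓ baseOpen f' d S₀') inf_le_left).hom t) :=
    isAway_appLE ψ' hV' _ O' hO'range hO'V
  have hβ' : IsAway β'.toRingHom (χ t') := by
    haveI : IsOpenImmersion (O'.ι ≫ 𝟙 (SymProd.fibPow (u' ≫ f') d)) := inferInstance
    refine isAway_appLE _ hT₀' (χ t') O' ?_ hO'T
    rw [Category.comp_id, Scheme.Opens.range_ι]
  have hO'H : ∀ h ∈ H, O' ≤ (ρU' h⁻¹).hom ⁻¹ᵁ O' := by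
    intro h hh z hz
    refine (hO'mem _).2 ⟨baseOpen_stable (u' ≫ f') d S₀' _ (hO'T hz), ?_⟩
    rw [show φU.base ((ρU' h⁻¹).hom.base z) = (ρU h⁻¹).hom.base (φU.base z) from
      congr(($(hφU h⁻¹)).base z)]
    exact hOH h hh (hO'O hz)
  refine ⟨H, t, ht, ?_, ?_, fun y' hy' => ?_⟩
  · rw [hmem, not_not, mem_basicOpen_appLE]
    exact ⟨hw'V, hwt'⟩
  · intro g hg
    rw [hmem, mem_basicOpen_appLE]
    rintro ⟨-, hgt⟩
    rw [mem_basicOpen_smul hVs g t hw₀V] at hgt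
    obtain ⟨o, ho, hoe⟩ := htle hgt
    refine hO₀E o.1 ho ?_
    rw [show ψ.base o.1 = _ from hoe]
    exact Set.mem_biUnion (x := g⁻¹) (fun h => hg (by simpa using inv_mem h))
      (subset_closure rfl)
  refine exists_pow_mul_mem_invSpan H χ (φU.appLE O O' hO'O).hom (ψ.appLE V O hOV).hom
    ((𝟙 (SymProd.fibPow (u ≫ f) d) : _ ⟶ _).appLE T₀ O hOT).hom α' β' ?_ ?_
    (fun g b => appLE_smul φU hφU (baseOpen_stable (u ≫ f) d S₀) (baseOpen_stable (u' ≫ f') d S₀') hTle g b)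
    (fun g r => smul_appLE_invariant (WidePullback.base (fun _ : Fin d => u' ≫ f'))
      (fun g => SymProd.permHom_base (u' ≫ f') d g.down) (baseOpen_stable (u' ≫ f') d S₀') le_rfl g r)
    t t' ht ht' hα hβ hα' hβ' (stableHom ρU O) (stableHom ρU' O')
    (fun h hh a => stableHom_appLE ψ hψ hVs hOV (hOH h hh) a)
    (fun h hh a => stableHom_appLE (ρQ := ρU) _ (fun g => by rw [Category.comp_id, Category.id_comp])
      (baseOpen_stable (u ≫ f) d S₀) hOT (hOH h hh) a)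
    (fun h hh a => stableHom_appLE ψ' hψ' (preimage_inf_stable f f' hX hS w d hVs S₀') hO'V (hO'H h hh) a)
    (fun h hh a => stableHom_appLE (ρQ := ρU') _ (fun g => by rw [Category.comp_id, Category.id_comp])
      (baseOpen_stable (u' ≫ f') d S₀') hO'T (hO'H h hh) a)
    ?_ ?_ y' hy'
  · intro a
    show (φU.appLE O O' hO'O).hom ((ψ.appLE V O hOV).hom a) =
      (ψ'.appLE (φ ⁻¹ᵁ V ⊓ baseOpen f' d S₀') O' hO'V).hom ((φ.appLE V (φ ⁻¹ᵁ V ⊓ baseOpen f' d S₀') inf_le_left).hom a)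
    rw [← RingHom.comp_apply, ← RingHom.comp_apply, ← CommRingCat.hom_comp, ← CommRingCat.hom_comp,
      Scheme.Hom.appLE_comp_appLE, Scheme.Hom.appLE_comp_appLE]
    exact congr(($(SGA1Q.appLE_congr_hom hcomm _ _)).hom a)
  · intro b
    show (φU.appLE O O' hO'O).hom (((𝟙 (SymProd.fibPow (u ≫ f) d) : _ ⟶ _).appLE T₀ O hOT).hom b) =
      ((𝟙 (SymProd.fibPow (u' ≫ f') d) : _ ⟶ _).appLE T₀' O' hO'T).hom (χ b)
    rw [← RingHom.comp_apply, ← RingHom.comp_apply, ← CommRingCat.hom_comp, ← CommRingCat.hom_comp,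
      Scheme.Hom.appLE_comp_appLE, Scheme.Hom.appLE_comp_appLE]
    exact congr(($(SGA1Q.appLE_congr_hom (by rw [Category.comp_id, Category.id_comp]) _ _)).hom b)
  · exact mem_invSpan_affine (u ≫ f) (u' ≫ f') hU hS wU d hS₀' hu hu' hle hflat hgenU
  · intro g hg
    refine isNilpotent_of_basicOpen_eq_bot hT₀ _ (bot_unique fun z hz => ?_)
    rw [Scheme.basicOpen_mul] at hz
    have hzW := hOW hz.2
    have hgz := hOW ((mem_basicOpen_smul (baseOpen_stable (u ≫ f) d S₀) g t' (hOT hz.2)).1 hz.1)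
    refine (hg fun i => ?_).elim
    by_contra hne
    have h1 : (WidePullback.π (fun _ : Fin d => u ≫ f) (g.down i)).base z ∈ C (c (g.down i)) :=
      mem_prodOpen.1 hzW (g.down i)
    have h2 := mem_prodOpen.1 hgz i
    rw [π_permActU_apply] at h2
    exact Set.disjoint_left.1 (hdis _ _ hne) h1 h2

end H9SymQ
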