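import Groth.Agent.H9SymQ.Quot
import Groth.Agent.SGA1Q.Residue
import Mathlib.AlgebraicGeometry.ResidueField

/-!
# The comparison map is an isomorphism on residue fields
-/

set_option autoImplicit false
set_option backward.isDefEq.respectTransparency false
set_option backward.isDefEq.respectTransparency.types false

universe u

open CategoryTheory CategoryTheory.Limits AlgebraicGeometry TopologicalSpace

namespace H9SymQ

lemma SpecMap_fromSpec_appLE {S : Scheme.{u}} {V : S.Opens} (hV : IsAffineOpen V)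
    {K : CommRingCat.{u}} (φ : Γ(S, V) ⟶ K) (e : ⊤ ≤ (Spec.map φ ≫ hV.fromSpec) ⁻¹ᵁ V) :
    (Spec.map φ ≫ hV.fromSpec).appLE V ⊤ e ≫ (Scheme.ΓSpecIso K).hom = φ := by
  have he : (⊤ : (Spec Γ(S, V)).Opens) ≤ hV.fromSpec ⁻¹ᵁ V := hV.fromSpec_preimage_self.ge
  have h2 : hV.fromSpec.appLE V ⊤ he = (Scheme.ΓSpecIso Γ(S, V)).inv := by
    rw [Scheme.Hom.appLE, hV.fromSpec_app_self, Category.assoc, ← Functor.map_comp,
      Subsingleton.elim (_ ≫ (homOfLE he).op) (𝟙 _), CategoryTheory.Functor.map_id,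
      Category.comp_id]
  have he' : (⊤ : (Spec K).Opens) ≤ Spec.map φ ⁻¹ᵁ ⊤ := fun _ _ => trivial
  rw [← Scheme.Hom.appLE_comp_appLE (Spec.map φ) hV.fromSpec V ⊤ ⊤ he he', Category.assoc, h2,
    show (Spec.map φ).appLE ⊤ ⊤ he' = (Spec.map φ).appTop from Scheme.Hom.appLE_eq_app _,
    Scheme.ΓSpecIso_naturality, Iso.inv_hom_id_assoc]

/-- Pulling back to a residue field is evaluation. -/
lemma fromSpecResidueField_appLE {S : Scheme.{u}} (s : S) {V : S.Opens} (hV : IsAffineOpen V)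
    (hs : s ∈ V) (e : ⊤ ≤ S.fromSpecResidueField s ⁻¹ᵁ V) :
    (S.fromSpecResidueField s).appLE V ⊤ e ≫ (Scheme.ΓSpecIso (S.residueField s)).hom =
      S.evaluation V s hs := by
  have h1 : S.fromSpecResidueField s = Spec.map (S.evaluation V s hs) ≫ hV.fromSpec := by
    rw [Scheme.fromSpecResidueField, ← hV.fromSpecStalk_eq_fromSpecStalk hs,
      IsAffineOpen.fromSpecStalk, Scheme.evaluation, Spec.map_comp_assoc]
  rw [SGA1Q.appLE_congr_hom h1 e (h1 ▸ e)]
  exact SpecMap_fromSpec_appLE hV _ _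

variable {X S X' S' : Scheme.{u}} (f : X ⟶ S) (f' : X' ⟶ S') (hX : X' ⟶ X) (hS : S' ⟶ S)
  (w : hX ≫ f = f' ≫ hS) (d : ℕ)

variable {Y Y' : Scheme.{u}} {q : SymProd.fibPow f d ⟶ Y} {g : Y ⟶ S}
  (hq : SymProd.IsSymProd f d q g) {r : SymProd.fibPow f' d ⟶ Y'}
  (hr : SGA1.IsQuot (SymProd.permActU f' d) r) (m : Y' ⟶ pullback g hS)
  (hm1 : r ≫ m ≫ pullback.fst g hS = powBC f f' hX hS w d ≫ q)
  (hm2 : r ≫ m ≫ pullback.snd g hS = WidePullback.base (fun _ : Fin d => f'))

include hq hr hm1 hm2 in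
/-- **The comparison map induces isomorphisms of residue fields.** -/
theorem isIso_residueFieldMap [IsClosedImmersion (pullback.lift hX f' w)] (y' : Y') :
    IsIso (m.residueFieldMap y') := by
  obtain ⟨w', rfl⟩ := SGA1Q.surjective hr y'
  set s' := (WidePullback.base (fun _ : Fin d => f')).base w' with hs'
  let u₁ := S'.fromSpecResidueField s'
  let f₁ := pullback.snd f' u₁
  let hX₁ := pullback.fst f' u₁
  have w₁ : hX₁ ≫ f' = f₁ ≫ u₁ := pullback.condition
  have w₂ : (hX₁ ≫ hX) ≫ f = f₁ ≫ u₁ ≫ hS := by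
    rw [Category.assoc, w, ← Category.assoc, w₁, Category.assoc]
  -- the base change of the closed immersion
  haveI : IsClosedImmersion (pullback.lift (hX₁ ≫ hX) f₁ w₂) := by
    let c := pullback.lift hX f' w
    let q₁ : pullback f (u₁ ≫ hS) ⟶ pullback f hS :=
      pullback.map f (u₁ ≫ hS) f hS (𝟙 _) u₁ (𝟙 _) (by simp) (by simp)
    have sq1 : IsPullback q₁ (pullback.snd f (u₁ ≫ hS)) (pullback.snd f hS) u₁ := by
      refine IsPullback.of_right ?_ (pullback.lift_snd _ _ _) (IsPullback.of_hasPullback f hS)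
      have : q₁ ≫ pullback.fst f hS = pullback.fst f (u₁ ≫ hS) := by simp [q₁]
      rw [this]
      exact IsPullback.of_hasPullback f (u₁ ≫ hS)
    have sq2 : IsPullback hX₁ (pullback.lift (hX₁ ≫ hX) f₁ w₂) c q₁ := by
      refine IsPullback.of_bot ?_ ?_ sq1
      · rw [pullback.lift_snd, pullback.lift_snd]
        exact IsPullback.of_hasPullback f' u₁
      · apply pullback.hom_ext
        · simp [c, q₁]
        · simp only [c, q₁, Category.assoc, pullback.lift_snd, pullback.map, pullback.lift_snd_assoc]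
          exact w₁
    exact MorphismProperty.of_isPullback (P := @IsClosedImmersion) sq2 inferInstance
  haveI : Flat f₁ := inferInstance
  -- a point over `w'`
  let κw := (SymProd.fibPow f' d).fromSpecResidueField w'
  have hκ : Spec.map ((WidePullback.base (fun _ : Fin d => f')).residueFieldMap w') ≫ u₁ =
      κw ≫ WidePullback.base (fun _ : Fin d => f') :=
    Scheme.Hom.SpecMap_residueFieldMap_fromSpecResidueField _ _
  let l : Spec ((SymProd.fibPow f' d).residueField w') ⟶ SymProd.fibPow f₁ d :=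
    WidePullback.lift (Spec.map ((WidePullback.base (fun _ : Fin d => f')).residueFieldMap w'))
      (fun i => pullback.lift (κw ≫ WidePullback.π (fun _ : Fin d => f') i)
        (Spec.map ((WidePullback.base (fun _ : Fin d => f')).residueFieldMap w'))
        (by rw [Category.assoc, WidePullback.π_arrow, hκ]))
      (fun i => pullback.lift_snd _ _ _)
  have hl : l ≫ powBC f' f₁ hX₁ u₁ w₁ d = κw := by
    apply WidePullback.hom_ext
    · intro i
      rw [Category.assoc, powBC_π, ← Category.assoc]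
      erw [WidePullback.lift_π]
      exact pullback.lift_fst _ _ _
    · rw [Category.assoc, powBC_base, ← Category.assoc]
      erw [WidePullback.lift_base]
      exact hκ
  let pt : ↥(Spec ((SymProd.fibPow f' d).residueField w')) := IsLocalRing.closedPoint _
  obtain ⟨w₂', hw₂⟩ : ∃ z, (powBC f' f₁ hX₁ u₁ w₁ d).base z = w' :=
    ⟨l.base pt, (congr(($hl).base pt)).trans ((SymProd.fibPow f' d).fromSpecResidueField_apply w' pt)⟩
  set τ := powBC f' f₁ hX₁ u₁ w₁ d ≫ r with hτ
  obtain ⟨y, hy, hy'⟩ : ∃ y, τ.base w₂' = y ∧ r.base w' = y :=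
    ⟨r.base w', congrArg r.base hw₂, rfl⟩
  rw [show r w' = τ.base w₂' from hy'.trans hy.symm]
  clear hy hy'
  -- affine pieces
  obtain ⟨S₀, hS₀, hzS, -⟩ := exists_isAffineOpen_mem_and_subset
    (x := g (pullback.fst g hS (m (τ.base w₂')))) (U := ⊤) trivial
  obtain ⟨Y₀, hY₀, hzY, hle0⟩ := exists_isAffineOpen_mem_and_subset
    (x := pullback.fst g hS (m (τ.base w₂'))) (U := g ⁻¹ᵁ S₀) hzS
  obtain ⟨S₀', hS₀', hzS', hle⟩ := exists_isAffineOpen_mem_and_subset
    (x := pullback.snd g hS (m (τ.base w₂'))) (U := hS ⁻¹ᵁ S₀) (by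
      show hS.base ((pullback.snd g hS).base (m.base (τ.base w₂'))) ∈ S₀
      rw [show hS.base ((pullback.snd g hS).base (m.base (τ.base w₂'))) =
          g.base ((pullback.fst g hS).base (m.base (τ.base w₂'))) from
        (congr(($(pullback.condition (f := g) (g := hS))).base (m.base (τ.base w₂')))).symm]
      exact hzS)
  have hs'S : s' ∈ S₀' := by
    have e1 := congr(($hm2).base w')
    have e2 : r.base w' = τ.base w₂' := (congrArg r.base hw₂).symm
    have e3 : (pullback.snd g hS).base (m.base (r.base w')) = s' := e1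
    rw [← e3, e2]
    exact hzS'
  have htop : (⊤ : (Spec (S'.residueField s')).Opens) ≤ u₁ ⁻¹ᵁ S₀' := fun z _ => by
    show u₁.base z ∈ S₀'
    rw [show u₁.base z = s' from S'.fromSpecResidueField_apply s' z]
    exact hs'S
  have htop' : (⊤ : (Spec (S'.residueField s')).Opens) ≤ (u₁ ≫ hS) ⁻¹ᵁ S₀ :=
    htop.trans (u₁.preimage_mono hle)
  haveI := hq.isQuot.affine
  let V := q ⁻¹ᵁ Y₀
  let Φ := powBC f f₁ (hX₁ ≫ hX) (u₁ ≫ hS) w₂ d
  have hVs := preimage_stable f d hq (Y₀ := Y₀)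
  have hsp := mem_invSpan_powBC f f₁ (hX₁ ≫ hX) (u₁ ≫ hS) w₂ d hS₀ (isAffineOpen_top _) htop'
    (hY₀.preimage q) hVs (preimage_le_baseOpen f d hq hle0)
  letI := ((WidePullback.base (fun _ : Fin d => f₁)).appLE ⊤
    (Φ ⁻¹ᵁ V ⊓ baseOpen f₁ d ⊤) inf_le_right).hom.toAlgebra
  letI := SGA1Q.secAction (SymProd.permActU f d) V hVs
  letI := SGA1Q.secAction (SymProd.permActU f₁ d) (Φ ⁻¹ᵁ V ⊓ baseOpen f₁ d ⊤)
    (preimage_inf_stable f f₁ (hX₁ ≫ hX) (u₁ ≫ hS) w₂ d hVs ⊤)
  have hΦ : Φ = powBC f' f₁ hX₁ u₁ w₁ d ≫ powBC f f' hX hS w d := by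
    apply WidePullback.hom_ext
    · intro i
      rw [Category.assoc, powBC_π, powBC_π, powBC_π_assoc]
    · rw [Category.assoc, powBC_base, powBC_base, powBC_base_assoc]
  have hτ1 : τ ≫ m ≫ pullback.fst g hS = Φ ≫ q := by
    rw [hτ, Category.assoc, hm1, ← Category.assoc, ← hΦ]
  have hτ2 : τ ≫ m ≫ pullback.snd g hS = WidePullback.base (fun _ : Fin d => f₁) ≫ u₁ := by
    rw [hτ, Category.assoc, hm2, powBC_base]
  have hwV : w₂' ∈ Φ ⁻¹ᵁ V ⊓ baseOpen f₁ d ⊤ := by
    refine ⟨?_, trivial⟩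
    show q.base (Φ.base w₂') ∈ Y₀
    rw [show q.base (Φ.base w₂') = (pullback.fst g hS).base (m.base (τ.base w₂')) from
      (congr(($hτ1).base w₂')).symm]
    exact hzY
  let U := m ⁻¹ᵁ piece g hS Y₀ S₀'
  have hU : IsAffineOpen U :=
    isAffineOpen_preimage_piece f f' hX hS w d hq hr m hm1 hm2 hY₀ hS₀ hS₀' hle0 hle
  have hyU : τ.base w₂' ∈ U := ⟨hzY, hzS'⟩
  have hτU : Φ ⁻¹ᵁ V ⊓ baseOpen f₁ d ⊤ ≤ τ ⁻¹ᵁ U := by
    rintro z ⟨hz, -⟩
    refine ⟨?_, ?_⟩
    · show (pullback.fst g hS).base (m.base (τ.base z)) ∈ Y₀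
      rw [show (pullback.fst g hS).base (m.base (τ.base z)) = q.base (Φ.base z) from
        congr(($hτ1).base z)]
      exact hz
    · show (pullback.snd g hS).base (m.base (τ.base z)) ∈ S₀'
      rw [show (pullback.snd g hS).base (m.base (τ.base z)) =
        u₁.base ((WidePullback.base (fun _ : Fin d => f₁)).base z) from congr(($hτ2).base z)]
      exact htop (Set.mem_univ _)
  have hτinv : ∀ g', (SymProd.permActU f₁ d g').hom ≫ τ = τ := by
    intro g'
    rw [hτ, SymProd.permActU_hom, permHom_powBC_assoc]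
    exact congrArg (powBC f' f₁ hX₁ u₁ w₁ d ≫ ·) (hr.inv g')
  let ev := ((SymProd.fibPow f₁ d).evaluation (Φ ⁻¹ᵁ V ⊓ baseOpen f₁ d ⊤) w₂' hwV).hom
  let res := (m.residueFieldMap (τ.base w₂')).hom
  let emb := (τ.residueFieldMap w₂').hom
  let K := (emb.comp res).fieldRange
  -- everything evaluates into the image of the residue field below
  have hfst : ∀ t : Γ(Y, Y₀), ev ((Φ.appLE V _ inf_le_left).hom ((q.app Y₀).hom t)) ∈ K := by
    intro t
    refine ⟨(pullback g hS).evaluation (piece g hS Y₀ S₀') (m.base (τ.base w₂')) ⟨hzY, hzS'⟩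
      (((pullback.fst g hS).appLE Y₀ (piece g hS Y₀ S₀') inf_le_left).hom t), ?_⟩
    refine (congrArg emb (SGA1Q.evaluation_appLE m (piece g hS Y₀ S₀') U le_rfl (τ.base w₂') hyU
      _).symm).trans ?_
    refine (SGA1Q.evaluation_appLE τ U _ hτU w₂' hwV _).symm.trans ?_
    refine congrArg ev ?_
    rw [Scheme.Hom.app_eq_appLE]
    rw [← RingHom.comp_apply, ← RingHom.comp_apply, ← RingHom.comp_apply, ← CommRingCat.hom_comp,
      ← CommRingCat.hom_comp, ← CommRingCat.hom_comp, Scheme.Hom.appLE_comp_appLE,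
      Scheme.Hom.appLE_comp_appLE, Scheme.Hom.appLE_comp_appLE]
    exact congr(($(SGA1Q.appLE_congr_hom (by rw [Category.assoc]; exact hτ1) _ _)).hom t)
  have hsnd : ∀ a : Γ(S', S₀'), ev ((((WidePullback.base (fun _ : Fin d => f₁)).appLE ⊤ _
      inf_le_right).hom) ((u₁.appLE S₀' ⊤ htop).hom a)) ∈ K := by
    intro a
    refine ⟨(pullback g hS).evaluation (piece g hS Y₀ S₀') (m.base (τ.base w₂')) ⟨hzY, hzS'⟩
      (((pullback.snd g hS).appLE S₀' (piece g hS Y₀ S₀') inf_le_right).hom a), ?_⟩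
    refine (congrArg emb (SGA1Q.evaluation_appLE m (piece g hS Y₀ S₀') U le_rfl (τ.base w₂') hyU
      _).symm).trans ?_
    refine (SGA1Q.evaluation_appLE τ U _ hτU w₂' hwV _).symm.trans ?_
    refine congrArg ev ?_
    rw [← RingHom.comp_apply, ← RingHom.comp_apply, ← RingHom.comp_apply, ← CommRingCat.hom_comp,
      ← CommRingCat.hom_comp, ← CommRingCat.hom_comp, Scheme.Hom.appLE_comp_appLE,
      Scheme.Hom.appLE_comp_appLE, Scheme.Hom.appLE_comp_appLE]
    exact congr(($(SGA1Q.appLE_congr_hom (by rw [Category.assoc]; exact hτ2) _ _)).hom a)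
  have hscal : ∀ e : Γ(Spec (S'.residueField s'), ⊤),
      ev ((((WidePullback.base (fun _ : Fin d => f₁)).appLE ⊤ _ inf_le_right).hom) e) ∈ K := by
    intro e
    letI := (RingHom.kerLift (S'.evaluation S₀' s' hs'S).hom).toAlgebra
    haveI := SGA1Q.isFractionRing_evaluation hS₀' s' hs'S
    haveI : (RingHom.ker (S'.evaluation S₀' s' hs'S).hom).IsPrime := RingHom.ker_isPrime _
    obtain ⟨a, b, hb, hab⟩ := IsFractionRing.div_surjective
      (Γ(S', S₀') ⧸ RingHom.ker (S'.evaluation S₀' s' hs'S).hom)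
      ((Scheme.ΓSpecIso (S'.residueField s')).hom.hom e)
    obtain ⟨a, rfl⟩ := Ideal.Quotient.mk_surjective a
    obtain ⟨b, rfl⟩ := Ideal.Quotient.mk_surjective b
    have hba : ∀ c, (Scheme.ΓSpecIso (S'.residueField s')).hom.hom ((u₁.appLE S₀' ⊤ htop).hom c) =
        algebraMap (Γ(S', S₀') ⧸ RingHom.ker (S'.evaluation S₀' s' hs'S).hom) _
          (Ideal.Quotient.mk _ c) :=
      fun c => congr(($(fromSpecResidueField_appLE s' hS₀' hs'S htop)).hom c)
    have hb0 : algebraMap (Γ(S', S₀') ⧸ RingHom.ker (S'.evaluation S₀' s' hs'S).hom)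
        (S'.residueField s') (Ideal.Quotient.mk _ b) ≠ 0 := by
      rw [map_ne_zero_iff _ (IsFractionRing.injective _ _)]
      exact nonZeroDivisors.ne_zero hb
    rw [div_eq_iff hb0, ← hba, ← hba, ← map_mul] at hab
    have he : (u₁.appLE S₀' ⊤ htop).hom a = e * (u₁.appLE S₀' ⊤ htop).hom b :=
      (ConcreteCategory.bijective_of_isIso (Scheme.ΓSpecIso (S'.residueField s')).hom).1 hab
    let φ₁ := ev.comp ((WidePullback.base (fun _ : Fin d => f₁)).appLE ⊤
      (Φ ⁻¹ᵁ V ⊓ baseOpen f₁ d ⊤) inf_le_right).hom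
    have hne : φ₁ ((u₁.appLE S₀' ⊤ htop).hom b) ≠ 0 := by
      have hu : IsUnit ((u₁.appLE S₀' ⊤ htop).hom b) := by
        have : IsUnit ((Scheme.ΓSpecIso (S'.residueField s')).hom.hom
            ((u₁.appLE S₀' ⊤ htop).hom b)) := by
          rw [hba]
          exact isUnit_iff_ne_zero.2 hb0
        have := this.map (Scheme.ΓSpecIso (S'.residueField s')).inv.hom
        rwa [← RingHom.comp_apply, ← CommRingCat.hom_comp, Iso.hom_inv_id] at this
      exact (hu.map φ₁).ne_zero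
    have hmul := congrArg φ₁ he
    rw [map_mul, ← div_eq_iff hne] at hmul
    show φ₁ e ∈ K
    rw [← hmul]
    exact div_mem (hsnd a) (hsnd b)
  have hkey : ∀ b : Γ(Y', U), emb (Y'.evaluation U (τ.base w₂') hyU b) ∈ K := by
    intro b
    rw [show emb _ = _ from (SGA1Q.evaluation_appLE τ U _ hτU w₂' hwV b).symm]
    have hmem := hsp ((τ.appLE U _ hτU).hom b) fun g' =>
      smul_appLE_invariant τ hτinv _ hτU g' b
    suffices key : ∀ v ∈ invSpan Γ(Spec (S'.residueField s'), ⊤)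
        (Φ.appLE V (Φ ⁻¹ᵁ V ⊓ baseOpen f₁ d ⊤) inf_le_left).hom
        (⊤ : Subgroup (ULift.{u} (Equiv.Perm (Fin d)))), ev v ∈ K from key _ hmem
    intro v hv
    induction hv using Submodule.span_induction with
    | mem z hz =>
      obtain ⟨a, ha, rfl⟩ := hz
      obtain ⟨t, rfl⟩ := (hq.isQuot.range_iff Y₀ a).2 fun g' => by
        have e := ha g'⁻¹ (Subgroup.mem_top _)
        change ((SymProd.permActU f d g'⁻¹⁻¹).hom.appLE _ _ _).hom a = a at e
        simp only [inv_inv] at e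
        exact e
      exact hfst t
    | zero => rw [map_zero]; exact zero_mem _
    | add a b _ _ ha hb => rw [map_add]; exact add_mem ha hb
    | smul s a _ ha =>
      rw [Algebra.smul_def, map_mul]
      exact mul_mem (hscal s) ha
  have hsurj : Function.Surjective res := by
    intro z
    letI := (RingHom.kerLift (Y'.evaluation U (τ.base w₂') hyU).hom).toAlgebra
    haveI := SGA1Q.isFractionRing_evaluation hU (τ.base w₂') hyU
    obtain ⟨a, b, -, hab⟩ := IsFractionRing.div_surjective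
      (Γ(Y', U) ⧸ RingHom.ker (Y'.evaluation U (τ.base w₂') hyU).hom) z
    obtain ⟨a, rfl⟩ := Ideal.Quotient.mk_surjective a
    obtain ⟨b, rfl⟩ := Ideal.Quotient.mk_surjective b
    have : emb z ∈ K := by
      rw [← hab, map_div₀]
      exact div_mem (hkey a) (hkey b)
    obtain ⟨x, hx⟩ := this
    exact ⟨x, emb.injective hx⟩
  exact (ConcreteCategory.isIso_iff_bijective _).2 ⟨res.injective, hsurj⟩

end H9SymQ
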