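import Groth.Agent.H9SymQ.QuotBC
import Groth.Agent.H9SymQ.Residue

/-!
# Transport and composition of quotients; the product of two symmetric products
-/

set_option autoImplicit false
set_option backward.isDefEq.respectTransparency false
set_option backward.isDefEq.respectTransparency.types false

universe u

open CategoryTheory CategoryTheory.Limits AlgebraicGeometry TopologicalSpace

namespace H9SymQ

section Quot

variable {A A' B B' C : Scheme.{u}} {G : Type u} [Group G] [Finite G]

/-- Transport of a quotient along an isomorphism of sources. -/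
theorem isQuot_of_iso_source (e : A' ≅ A) {ρ : G →* Aut A} {ρ' : G →* Aut A'}
    (heq : ∀ g, (ρ' g).hom ≫ e.hom = e.hom ≫ (ρ g).hom) {p : A ⟶ B} (hp : SGA1.IsQuot ρ p) :
    SGA1.IsQuot ρ' (e.hom ≫ p) :=
  SGA1Q.isQuot_baseChange hp (𝟙 B) e.hom (e.hom ≫ p)
    (IsPullback.of_horiz_isIso ⟨by simp⟩) ρ' heq fun g => by
      rw [← Category.assoc, heq, Category.assoc, hp.inv g]

/-- Transport of a quotient along an isomorphism of targets. -/
theorem isQuot_of_iso_target (e : B ≅ B') {ρ : G →* Aut A} {p : A ⟶ B} (hp : SGA1.IsQuot ρ p) :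
    SGA1.IsQuot ρ (p ≫ e.hom) :=
  SGA1Q.isQuot_baseChange hp e.inv (𝟙 A) (p ≫ e.hom) (IsPullback.of_horiz_isIso ⟨by simp⟩) ρ
    (fun g => by simp) fun g => by rw [← Category.assoc, hp.inv g]

/-- Two quotients are isomorphic. -/
theorem isIso_of_isQuot {ρ : G →* Aut A} {p : A ⟶ B} {p' : A ⟶ B'} (hp : SGA1.IsQuot ρ p)
    (hp' : SGA1.IsQuot ρ p') (k : B ⟶ B') (hk : p ≫ k = p') : IsIso k := by
  obtain ⟨l, hl, -⟩ := SGA1Q.desc_existsUnique_isQuot hp' p hp.inv
  refine ⟨⟨l, ?_, ?_⟩⟩
  · exact (SGA1Q.desc_existsUnique_isQuot hp p hp.inv).unique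
      (by rw [reassoc_of% hk, hl]) (Category.comp_id p)
  · exact (SGA1Q.desc_existsUnique_isQuot hp' p' hp'.inv).unique
      (by rw [reassoc_of% hl, hk]) (Category.comp_id p')

/-- Quotient maps are epimorphisms. -/
theorem cancel_isQuot {ρ : G →* Aut A} {p : A ⟶ B} (hp : SGA1.IsQuot ρ p) {a b : B ⟶ C}
    (h : p ≫ a = p ≫ b) : a = b :=
  (SGA1Q.desc_existsUnique_isQuot hp (p ≫ a) fun g => by rw [← Category.assoc, hp.inv g]).unique
    rfl h.symm

/-- A quotient in two steps. -/
theorem isQuot_comp {G₁ G₂ : Type u} [Group G₁] [Group G₂] {ρ : G →* Aut A} {ρ₁ : G₁ →* Aut A}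
    {ρ₂ : G₂ →* Aut B} {p₁ : A ⟶ B} {p₂ : B ⟶ C} (h₁ : SGA1.IsQuot ρ₁ p₁) (h₂ : SGA1.IsQuot ρ₂ p₂)
    (π : G →* G₂) (hπ : Function.Surjective π) (hcomm : ∀ g, (ρ g).hom ≫ p₁ = p₁ ≫ (ρ₂ (π g)).hom)
    (j : G₁ →* G) (hj : ∀ g₁, ρ (j g₁) = ρ₁ g₁) :
    SGA1.IsQuot ρ (p₁ ≫ p₂) := by
  haveI := h₁.affine
  haveI := h₂.affine
  have hinv : ∀ g, (ρ g).hom ≫ p₁ ≫ p₂ = p₁ ≫ p₂ := fun g => by
    rw [← Category.assoc, hcomm, Category.assoc, h₂.inv]
  refine ⟨inferInstance, hinv, fun U a b hab => ?_, fun U s => ⟨?_, fun hs => ?_⟩⟩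
  · exact h₂.injective U (h₁.injective _ hab)
  · rintro ⟨t, rfl⟩ g
    exact SGA1Q.appLE_app_of_inv hinv U g t
  · obtain ⟨t, rfl⟩ := (h₁.range_iff (p₂ ⁻¹ᵁ U) s).2 fun g₁ => by
      have e : (ρ₁ g₁).hom = (ρ (j g₁)).hom := by rw [hj]
      rw [SGA1Q.appLE_congr_hom (U := p₁ ⁻¹ᵁ p₂ ⁻¹ᵁ U) (V := p₁ ⁻¹ᵁ p₂ ⁻¹ᵁ U) e _
        (SGA1.preimage_le_of_inv ρ (p₁ ≫ p₂) hinv (j g₁) U)]
      exact hs (j g₁)
    obtain ⟨t', rfl⟩ := (h₂.range_iff U t).2 fun g₂ => by
      obtain ⟨g, rfl⟩ := hπ g₂
      refine h₁.injective (p₂ ⁻¹ᵁ U) ?_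
      refine Eq.trans ?_ (hs g)
      show ((ρ₂ (π g)).hom.appLE (p₂ ⁻¹ᵁ U) (p₂ ⁻¹ᵁ U) _ ≫ p₁.app (p₂ ⁻¹ᵁ U)).hom t =
        (p₁.app (p₂ ⁻¹ᵁ U) ≫ (ρ g).hom.appLE (p₁ ⁻¹ᵁ p₂ ⁻¹ᵁ U) (p₁ ⁻¹ᵁ p₂ ⁻¹ᵁ U)
          (SGA1.preimage_le_of_inv ρ (p₁ ≫ p₂) hinv g U)).hom t
      refine congrArg (fun m => (CommRingCat.Hom.hom m) t) ?_
      simp only [Scheme.Hom.app_eq_appLE, Scheme.Hom.appLE_comp_appLE]
      exact SGA1Q.appLE_congr_hom (hcomm g).symm _ _
    exact ⟨t', rfl⟩

end Quot

variable {X Z S P Q : Scheme.{u}}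

/-- The permutations of one factor acting on a fibre product. -/
noncomputable def sndAct (f : P ⟶ S) (g : Z ⟶ S) (e : ℕ) :
    ULift.{u} (Equiv.Perm (Fin e)) →*
      Aut (pullback f (WidePullback.base fun _ : Fin e => g)) where
  toFun σ :=
    { hom := pullback.map _ _ _ _ (𝟙 P) (SymProd.permHom g e σ.down) (𝟙 S) (by simp) (by simp)
      inv := pullback.map _ _ _ _ (𝟙 P) (SymProd.permHom g e σ.down⁻¹) (𝟙 S) (by simp) (by simp)
      hom_inv_id := by
        apply pullback.hom_ext <;> simp [← SymProd.permHom_mul, SymProd.permHom_one]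
      inv_hom_id := by
        apply pullback.hom_ext <;> simp [← SymProd.permHom_mul, SymProd.permHom_one] }
  map_one' := by
    ext1
    show _ = 𝟙 _
    apply pullback.hom_ext <;> simp [SymProd.permHom_one]
  map_mul' σ τ := by
    ext1
    apply pullback.hom_ext <;> simp [Aut.Aut_mul_def, SymProd.permHom_mul]

/-- Units pull back. -/
lemma isUnit_natCast_appTop {T : Scheme.{u}} (a : T ⟶ S)
    (hn : ∀ n : ℕ, 0 < n → IsUnit ((n : ℕ) : Γ(S, ⊤))) (n : ℕ) (h : 0 < n) :
    IsUnit ((n : ℕ) : Γ(T, ⊤)) := by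
  have := (hn n h).map a.appTop.hom
  rwa [map_natCast] at this

/-- **The product of two symmetric products is a quotient of the product of the fibre powers.** -/
theorem isQuot_prod (f : X ⟶ S) (g : Z ⟶ S) (d e : ℕ)
    (h : (Flat f ∧ Flat g) ∨ ∀ n : ℕ, 0 < n → IsUnit ((n : ℕ) : Γ(S, ⊤)))
    {qX : SymProd.fibPow f d ⟶ P} {pP : P ⟶ S} (hqX : SymProd.IsSymProd f d qX pP)
    {qZ : SymProd.fibPow g e ⟶ Q} {pQ : Q ⟶ S} (hqZ : SymProd.IsSymProd g e qZ pQ)
    (ρ : ULift.{u} (Equiv.Perm (Fin d) × Equiv.Perm (Fin e)) →*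
      Aut (pullback (WidePullback.base fun _ : Fin d => f) (WidePullback.base fun _ : Fin e => g)))
    (hρ : ∀ σ, (ρ σ).hom ≫ pullback.fst (WidePullback.base fun _ : Fin d => f) (WidePullback.base fun _ : Fin e => g) =
        pullback.fst (WidePullback.base fun _ : Fin d => f) (WidePullback.base fun _ : Fin e => g) ≫
          SymProd.permHom f d σ.down.1 ∧
      (ρ σ).hom ≫ pullback.snd (WidePullback.base fun _ : Fin d => f) (WidePullback.base fun _ : Fin e => g) =
        pullback.snd (WidePullback.base fun _ : Fin d => f) (WidePullback.base fun _ : Fin e => g) ≫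
          SymProd.permHom g e σ.down.2) :
    SGA1.IsQuot ρ (pullback.map (WidePullback.base fun _ : Fin d => f) (WidePullback.base fun _ : Fin e => g) pP pQ
      qX qZ (𝟙 S) ((Category.comp_id _).trans hqX.over.symm) ((Category.comp_id _).trans hqZ.over.symm)) := by
  let j : ULift.{u} (Equiv.Perm (Fin d)) →* ULift.{u} (Equiv.Perm (Fin d) × Equiv.Perm (Fin e)) :=
    { toFun := fun σ => ⟨(σ.down, 1)⟩
      map_one' := rfl
      map_mul' := fun σ τ => ULift.ext _ _ (by simp) }
  let π : ULift.{u} (Equiv.Perm (Fin d) × Equiv.Perm (Fin e)) →* ULift.{u} (Equiv.Perm (Fin e)) :=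
    { toFun := fun σ => ⟨σ.down.2⟩
      map_one' := rfl
      map_mul' := fun σ τ => rfl }
  -- first step
  let n₁ : pullback (WidePullback.base fun _ : Fin d => f) (WidePullback.base fun _ : Fin e => g) ⟶ pullback pP (WidePullback.base fun _ : Fin e => g) :=
    pullback.map (WidePullback.base fun _ : Fin d => f) (WidePullback.base fun _ : Fin e => g) pP (WidePullback.base fun _ : Fin e => g) qX (𝟙 _) (𝟙 S) ((Category.comp_id _).trans hqX.over.symm) (by simp)
  let E := asIso (jPow f (pullback.snd f (WidePullback.base fun _ : Fin e => g)) (pullback.fst f (WidePullback.base fun _ : Fin e => g)) (WidePullback.base fun _ : Fin e => g) pullback.condition d)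
  have hE1 : E.hom ≫ pullback.fst (WidePullback.base fun _ : Fin d => f) (WidePullback.base fun _ : Fin e => g) = powBC f (pullback.snd f (WidePullback.base fun _ : Fin e => g)) (pullback.fst f (WidePullback.base fun _ : Fin e => g)) (WidePullback.base fun _ : Fin e => g)
      pullback.condition d := pullback.lift_fst _ _ _
  have hE2 : E.hom ≫ pullback.snd (WidePullback.base fun _ : Fin d => f) (WidePullback.base fun _ : Fin e => g) = WidePullback.base (fun _ : Fin d => pullback.snd f (WidePullback.base fun _ : Fin e => g)) :=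
    pullback.lift_snd _ _ _
  have h1 : SGA1.IsQuot (ρ.comp j) n₁ := by
    have hq := isQuot_quotBC f d (WidePullback.base fun _ : Fin e => g) hqX (h.imp (fun h => h.1) (fun hn => isUnit_natCast_appTop (WidePullback.base fun _ : Fin e => g) hn))
    have hn₁ : n₁ = E.inv ≫ quotBC f d (WidePullback.base fun _ : Fin e => g) hqX := by
      rw [Iso.eq_inv_comp]
      apply pullback.hom_ext
      · simp only [n₁, quotBC, Category.assoc, pullback.lift_fst, pullback.map]
        rw [reassoc_of% hE1]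
      · simp only [n₁, quotBC, Category.assoc, pullback.lift_snd, pullback.map, Category.comp_id]
        exact hE2
    rw [hn₁]
    refine isQuot_of_iso_source E.symm (fun σ => ?_) hq
    have key : (SymProd.permActU (pullback.snd f (WidePullback.base fun _ : Fin e => g)) d σ).hom ≫ E.hom =
        E.hom ≫ ((ρ.comp j) σ).hom := by
      apply pullback.hom_ext
      · rw [Category.assoc, hE1, Category.assoc, MonoidHom.comp_apply, (hρ _).1, reassoc_of% hE1]
        exact permHom_powBC _ _ _ _ _ d σ.down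
      · rw [Category.assoc, hE2, Category.assoc, MonoidHom.comp_apply, (hρ _).2]
        show _ = E.hom ≫ pullback.snd (WidePullback.base fun _ : Fin d => f) (WidePullback.base fun _ : Fin e => g) ≫ SymProd.permHom g e 1
        rw [SymProd.permHom_one, Category.comp_id, hE2]
        exact SymProd.permHom_base _ _ _
    rw [Iso.symm_hom, Iso.eq_inv_comp, ← Category.assoc, ← key, Category.assoc, Iso.hom_inv_id,
      Category.comp_id]
  -- second step
  let n₂ : pullback pP (WidePullback.base fun _ : Fin e => g) ⟶ pullback pP pQ :=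
    pullback.map pP (WidePullback.base fun _ : Fin e => g) pP pQ (𝟙 P) qZ (𝟙 S) (by simp) ((Category.comp_id _).trans hqZ.over.symm)
  let F := asIso (jPow g (pullback.snd g pP) (pullback.fst g pP) pP pullback.condition e) ≪≫
    pullbackSymmetry (WidePullback.base fun _ : Fin e => g) pP
  have hF2 : F.hom ≫ pullback.snd pP (WidePullback.base fun _ : Fin e => g) = powBC g (pullback.snd g pP) (pullback.fst g pP) pP
      pullback.condition e := by
    simp [F, jPow]
  have hF1 : F.hom ≫ pullback.fst pP (WidePullback.base fun _ : Fin e => g) = WidePullback.base (fun _ : Fin e => pullback.snd g pP) := by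
    simp [F, jPow]
  have h2 : SGA1.IsQuot (sndAct pP g e) n₂ := by
    have hq := isQuot_of_iso_target (pullbackSymmetry pQ pP)
      (isQuot_quotBC g e pP hqZ (h.imp (fun h => h.2) (fun hn => isUnit_natCast_appTop pP hn)))
    have hn₂ : n₂ = F.inv ≫ quotBC g e pP hqZ ≫ (pullbackSymmetry pQ pP).hom := by
      rw [Iso.eq_inv_comp]
      apply pullback.hom_ext
      · simp only [n₂, quotBC, Category.assoc, pullback.lift_fst, pullback.map, Category.comp_id,
          pullbackSymmetry_hom_comp_fst, pullback.lift_snd]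
        exact hF1
      · simp only [n₂, quotBC, Category.assoc, pullback.lift_snd, pullback.map,
          pullbackSymmetry_hom_comp_snd, pullback.lift_fst]
        rw [reassoc_of% hF2]
    rw [hn₂]
    refine isQuot_of_iso_source F.symm (fun σ => ?_) hq
    have key : (SymProd.permActU (pullback.snd g pP) e σ).hom ≫ F.hom =
        F.hom ≫ (sndAct pP g e σ).hom := by
      apply pullback.hom_ext
      · have : (sndAct pP g e σ).hom ≫ pullback.fst pP (WidePullback.base fun _ : Fin e => g) = pullback.fst pP (WidePullback.base fun _ : Fin e => g) := by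
          simp [sndAct]
        rw [Category.assoc, hF1, Category.assoc, this, hF1]
        exact SymProd.permHom_base _ _ _
      · have : (sndAct pP g e σ).hom ≫ pullback.snd pP (WidePullback.base fun _ : Fin e => g) =
            pullback.snd pP (WidePullback.base fun _ : Fin e => g) ≫ SymProd.permHom g e σ.down := by
          simp [sndAct]
        rw [Category.assoc, hF2, Category.assoc, this, reassoc_of% hF2]
        exact permHom_powBC _ _ _ _ _ e σ.down
    rw [Iso.symm_hom, Iso.eq_inv_comp, ← Category.assoc, ← key, Category.assoc, Iso.hom_inv_id,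
      Category.comp_id]
  have hmap : pullback.map (WidePullback.base fun _ : Fin d => f) (WidePullback.base fun _ : Fin e => g) pP pQ qX qZ (𝟙 S) ((Category.comp_id _).trans hqX.over.symm)
      ((Category.comp_id _).trans hqZ.over.symm) = n₁ ≫ n₂ := by
    apply pullback.hom_ext <;> simp [n₁, n₂]
  rw [hmap]
  refine isQuot_comp h1 h2 π (fun σ => ⟨⟨(1, σ.down)⟩, rfl⟩) (fun σ => ?_) j (fun σ => rfl)
  apply pullback.hom_ext
  · have e1 : n₁ ≫ pullback.fst pP (WidePullback.base fun _ : Fin e => g) = pullback.fst (WidePullback.base fun _ : Fin d => f) (WidePullback.base fun _ : Fin e => g) ≫ qX := pullback.lift_fst _ _ _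
    have e2 : (sndAct pP g e (π σ)).hom ≫ pullback.fst pP (WidePullback.base fun _ : Fin e => g) = pullback.fst pP (WidePullback.base fun _ : Fin e => g) := by
      simp [sndAct]
    rw [Category.assoc, e1, ← Category.assoc, (hρ σ).1, Category.assoc, Category.assoc, e2, e1]
    exact congrArg (_ ≫ ·) (hqX.isQuot.inv ⟨σ.down.1⟩)
  · have e1 : n₁ ≫ pullback.snd pP (WidePullback.base fun _ : Fin e => g) = pullback.snd (WidePullback.base fun _ : Fin d => f) (WidePullback.base fun _ : Fin e => g) := by simp [n₁]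
    have e2 : (sndAct pP g e (π σ)).hom ≫ pullback.snd pP (WidePullback.base fun _ : Fin e => g) =
        pullback.snd pP (WidePullback.base fun _ : Fin e => g) ≫ SymProd.permHom g e σ.down.2 := by
      simp [sndAct, π]
    rw [Category.assoc, e1, (hρ σ).2, Category.assoc, e2, reassoc_of% e1]

end H9SymQ
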