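import Mathlib.RingTheory.Flat.Basic
import Mathlib.RingTheory.IsTensorProduct
import Mathlib.LinearAlgebra.TensorProduct.RightExactness

/-!
# Universal injectivity of rings of invariants
-/

set_option autoImplicit false
set_option backward.isDefEq.respectTransparency false
set_option backward.isDefEq.respectTransparency.types false

universe u

open scoped TensorProduct

namespace H9SymQ

variable {R A B : Type u} [CommRing R] [CommRing A] [CommRing B] [Algebra R A] [Algebra R B]
  {G : Type*}

theorem lTensor_injective_aux [Module.Flat R A] {K F M : Type u} [AddCommGroup K] [Module R K]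
    [AddCommGroup F] [Module R F] [Module.Flat R F] [AddCommGroup M] [Module R M]
    (j : K →ₗ[R] F) (π : F →ₗ[R] M) (hjinj : Function.Injective j) (hπ : Function.Surjective π)
    (hex : Function.Exact j π) (σ : G → A →ₗ[R] A) (ι : B →ₗ[R] A) (hι : Function.Injective ι)
    (hfix : ∀ g b, σ g (ι b) = ι b)
    (hsurj : ∀ z : K ⊗[R] A, (∀ g, (σ g).lTensor K z = z) → z ∈ LinearMap.range (ι.lTensor K)) :
    Function.Injective (ι.lTensor M) := by
  rw [injective_iff_map_eq_zero]
  intro z hz
  obtain ⟨z', rfl⟩ := LinearMap.rTensor_surjective B hπ z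
  have h1 : π.rTensor A (ι.lTensor F z') = 0 := by
    rw [← LinearMap.comp_apply, LinearMap.rTensor_comp_lTensor, ← LinearMap.lTensor_comp_rTensor]
    exact hz
  obtain ⟨k, hk⟩ := (rTensor_exact A hex hπ _).1 h1
  have hkfix : ∀ g, (σ g).lTensor K k = k := by
    intro g
    apply Module.Flat.rTensor_preserves_injective_linearMap (M := A) j hjinj
    rw [← LinearMap.comp_apply, LinearMap.rTensor_comp_lTensor, ← LinearMap.lTensor_comp_rTensor,
      LinearMap.comp_apply, hk, ← LinearMap.comp_apply, ← LinearMap.lTensor_comp]
    congr 2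
    exact LinearMap.ext (hfix g)
  obtain ⟨k', hk'⟩ := hsurj k hkfix
  rw [← hk', ← LinearMap.comp_apply, LinearMap.rTensor_comp_lTensor,
    ← LinearMap.lTensor_comp_rTensor, LinearMap.comp_apply] at hk
  have h2 : j.rTensor B k' = z' :=
    Module.Flat.lTensor_preserves_injective_linearMap (M := F) ι hι hk
  rw [← h2, ← LinearMap.comp_apply, ← LinearMap.rTensor_comp,
    show π ∘ₗ j = 0 from LinearMap.ext fun x => hex.apply_apply_eq_zero x]
  simp

/-- If the invariants commute with every `M ⊗ -` up to surjectivity and `A` is flat, the inclusion of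
the invariants is universally injective. -/
theorem lTensor_injective_of_surjective [Module.Flat R A] (σ : G → A →ₗ[R] A) (ι : B →ₗ[R] A)
    (hι : Function.Injective ι) (hfix : ∀ g b, σ g (ι b) = ι b)
    (hsurj : ∀ (M : Type u) [AddCommGroup M] [Module R M] (z : M ⊗[R] A),
      (∀ g, (σ g).lTensor M z = z) → z ∈ LinearMap.range (ι.lTensor M))
    (M : Type u) [AddCommGroup M] [Module R M] : Function.Injective (ι.lTensor M) :=
  step (Finsupp.linearCombination R (id : M → M)) (Finsupp.linearCombination_id_surjective R M)
where
  step {F : Type u} [AddCommGroup F] [Module R F] [Module.Flat R F] (π : F →ₗ[R] M)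
      (hπ : Function.Surjective π) : Function.Injective (ι.lTensor M) :=
    lTensor_injective_aux (LinearMap.ker π).subtype π (Submodule.subtype_injective _) hπ
      (LinearMap.exact_subtype_ker_map π) σ ι hι hfix (hsurj _)

variable {A' B' : Type u} [CommRing A'] [CommRing B'] [Algebra R A'] [Algebra R B']

/-- Injectivity on pushouts along an algebra with split invariants. -/
theorem injective_of_retraction {B A B' A' : Type u} [CommRing B] [CommRing A] [CommRing B']
    [CommRing A'] [Algebra B A] [Algebra B B'] [Algebra A A'] [Algebra B' A'] [Algebra B A']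
    [IsScalarTower B B' A'] [IsScalarTower B A A'] [Algebra.IsPushout B B' A A']
    (τ : A →ₗ[B] B) (hτ : IsUnit (algebraMap B B' (τ 1))) :
    Function.Injective (algebraMap B' A') := by
  let e := Algebra.IsPushout.equiv B B' A A'
  rw [injective_iff_map_eq_zero]
  intro b hb
  have h1 : (b ⊗ₜ[B] (1 : A)) = 0 := e.injective (by
    rw [map_zero, Algebra.IsPushout.equiv_tmul, map_one, mul_one, hb])
  have h2 := congrArg ((TensorProduct.rid B B').toLinearMap ∘ₗ τ.lTensor B') h1
  simp only [LinearMap.coe_comp, LinearEquiv.coe_coe, Function.comp_apply, LinearMap.lTensor_tmul,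
    TensorProduct.rid_tmul, map_zero] at h2
  rw [Algebra.smul_def] at h2
  exact hτ.mul_right_eq_zero.1 h2

end H9SymQ
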