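import Groth.Agent.H9SymQ.Quot
import Groth.Agent.H9SymQ.Pure
import Groth.Agent.SGA1Q.BaseChange
import Mathlib.Algebra.TrivSqZeroExt.Basic

/-!
# The symmetric product of a flat scheme commutes with any change of base
-/

set_option autoImplicit false
set_option backward.isDefEq.respectTransparency false
set_option backward.isDefEq.respectTransparency.types false

universe u

open CategoryTheory CategoryTheory.Limits AlgebraicGeometry TopologicalSpace
open scoped TensorProduct

namespace H9SymQ

variable {X S : Scheme.{u}} (f : X ⟶ S)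

instance isClosedImmersion_lift_fst_snd {S' : Scheme.{u}} (hS : S' ⟶ S) :
    IsClosedImmersion (pullback.lift (pullback.fst f hS) (pullback.snd f hS) pullback.condition) := by
  rw [show pullback.lift (pullback.fst f hS) (pullback.snd f hS) pullback.condition =
    𝟙 (pullback f hS) from pullback.hom_ext (by simp) (by simp)]
  infer_instance

/-- Fibre powers of a flat morphism are flat. -/
theorem flat_base [Flat f] : ∀ d : ℕ, Flat (WidePullback.base (fun _ : Fin d => f))
  | 0 => by
    have h2 : WidePullback.base (fun _ : Fin 0 => f) ≫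
        WidePullback.lift (𝟙 S) (fun i => i.elim0) (fun i => i.elim0) = 𝟙 _ := by
      apply WidePullback.hom_ext
      · exact fun i => i.elim0
      · rw [Category.assoc, WidePullback.lift_base, Category.comp_id, Category.id_comp]
    haveI : IsIso (WidePullback.base (fun _ : Fin 0 => f)) :=
      ⟨⟨_, h2, WidePullback.lift_base _ _ _ _⟩⟩
    infer_instance
  | d + 1 => by
    haveI := flat_base d
    let P := pullback (WidePullback.base (fun _ : Fin d => f)) f
    let ini : SymProd.fibPow f (d + 1) ⟶ SymProd.fibPow f d :=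
      WidePullback.lift (WidePullback.base _)
        (fun i => WidePullback.π (fun _ : Fin (d + 1) => f) i.castSucc)
        (fun i => WidePullback.π_arrow (fun _ : Fin (d + 1) => f) i.castSucc)
    have hiniπ : ∀ i, ini ≫ WidePullback.π (fun _ : Fin d => f) i =
        WidePullback.π (fun _ : Fin (d + 1) => f) i.castSucc := fun i =>
      WidePullback.lift_π _ _ _ _ i
    have hinib : ini ≫ WidePullback.base (fun _ : Fin d => f) =
        WidePullback.base (fun _ : Fin (d + 1) => f) := WidePullback.lift_base _ _ _ _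
    let A : SymProd.fibPow f (d + 1) ⟶ P :=
      pullback.lift ini (WidePullback.π (fun _ : Fin (d + 1) => f) (Fin.last d))
        (hinib.trans (WidePullback.π_arrow (fun _ : Fin (d + 1) => f) (Fin.last d)).symm)
    let p₁ := pullback.fst (WidePullback.base (fun _ : Fin d => f)) f
    let p₂ := pullback.snd (WidePullback.base (fun _ : Fin d => f)) f
    let arg : Fin (d + 1) → (P ⟶ X) :=
      Fin.lastCases p₂ (fun i => p₁ ≫ WidePullback.π (fun _ : Fin d => f) i)
    let B : P ⟶ SymProd.fibPow f (d + 1) :=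
      WidePullback.lift (p₁ ≫ WidePullback.base _) arg (fun i => by
        refine Fin.lastCases ?_ (fun j => ?_) i
        · simp only [arg, Fin.lastCases_last]
          exact pullback.condition.symm
        · simp only [arg, Fin.lastCases_castSucc, Category.assoc, WidePullback.π_arrow])
    have hBπ : ∀ i, B ≫ WidePullback.π (fun _ : Fin (d + 1) => f) i = arg i := fun i =>
      WidePullback.lift_π _ _ _ _ i
    have hBb : B ≫ WidePullback.base (fun _ : Fin (d + 1) => f) = p₁ ≫ WidePullback.base _ :=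
      WidePullback.lift_base _ _ _ _
    have hA1 : A ≫ p₁ = ini := pullback.lift_fst _ _ _
    have hA2 : A ≫ p₂ = WidePullback.π (fun _ : Fin (d + 1) => f) (Fin.last d) :=
      pullback.lift_snd _ _ _
    have h1 : A ≫ B = 𝟙 _ := by
      apply WidePullback.hom_ext
      · intro i
        rw [Category.assoc, hBπ, Category.id_comp]
        refine Fin.lastCases ?_ (fun j => ?_) i
        · simp only [arg, Fin.lastCases_last, hA2]
        · simp only [arg, Fin.lastCases_castSucc, reassoc_of% hA1, hiniπ]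
      · rw [Category.assoc, hBb, reassoc_of% hA1, hinib, Category.id_comp]
    have h2 : B ≫ A = 𝟙 _ := by
      apply pullback.hom_ext
      · refine (Category.assoc _ _ _).trans ((congrArg (B ≫ ·) hA1).trans ?_)
        rw [Category.id_comp]
        apply WidePullback.hom_ext
        · intro i
          rw [Category.assoc, hiniπ, hBπ]
          simp only [arg, Fin.lastCases_castSucc]
          rfl
        · rw [Category.assoc, hinib, hBb]
      · refine (Category.assoc _ _ _).trans ((congrArg (B ≫ ·) hA2).trans ?_)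
        rw [hBπ, Category.id_comp]
        simp only [arg, Fin.lastCases_last]
        rfl
    haveI : IsIso A := ⟨⟨B, h1, h2⟩⟩
    haveI : Flat ini := by rw [← hA1]; infer_instance
    rw [← hinib]
    infer_instance

variable (d : ℕ)

section BaseChange

variable {S' : Scheme.{u}} (hS : S' ⟶ S)

/-- The fibre power over the base change is the base change of the fibre power. -/
theorem isPullback_powBC :
    IsPullback (powBC f (pullback.snd f hS) (pullback.fst f hS) hS pullback.condition d)
      (WidePullback.base (fun _ : Fin d => pullback.snd f hS))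
      (WidePullback.base (fun _ : Fin d => f)) hS :=
  IsPullback.of_iso_pullback ⟨powBC_base _ _ _ _ _ d⟩
    (asIso (jPow f (pullback.snd f hS) (pullback.fst f hS) hS pullback.condition d))
    (pullback.lift_fst _ _ _) (pullback.lift_snd _ _ _)

variable {Y : Scheme.{u}} {q : SymProd.fibPow f d ⟶ Y} {g : Y ⟶ S}
  (hq : SymProd.IsSymProd f d q g)

/-- The base change of the quotient map. -/
noncomputable def quotBC : SymProd.fibPow (pullback.snd f hS) d ⟶ pullback g hS :=
  pullback.lift (powBC f (pullback.snd f hS) (pullback.fst f hS) hS pullback.condition d ≫ q)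
    (WidePullback.base _) (by rw [Category.assoc, hq.over, powBC_base])

include hq in
theorem isPullback_quotBC :
    IsPullback (powBC f (pullback.snd f hS) (pullback.fst f hS) hS pullback.condition d)
      (quotBC f d hS hq) q (pullback.fst g hS) := by
  refine IsPullback.of_bot ?_ (pullback.lift_fst _ _ _).symm (IsPullback.of_hasPullback g hS)
  rw [quotBC, pullback.lift_snd, hq.over]
  exact isPullback_powBC f d hS

/-- **Invariants of the tensor product with an algebra over the base.** -/
theorem spans_tensor [Flat f] {S₀ : S.Opens} (hS₀ : IsAffineOpen S₀)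
    {V : (SymProd.fibPow f d).Opens} (hV : IsAffineOpen V)
    (hVs : ∀ g', V ≤ (SymProd.permActU f d g').hom ⁻¹ᵁ V) (hVS : V ≤ baseOpen f d S₀)
    (R' : Type u) [CommRing R'] [Algebra Γ(S, S₀) R'] :
    letI := ((WidePullback.base (fun _ : Fin d => f)).appLE S₀ V hVS).hom.toAlgebra
    ∀ (B : Type u) [CommRing B] [Algebra Γ(S, S₀) B] (ι : B →ₐ[Γ(S, S₀)] Γ(SymProd.fibPow f d, V))
      (σ : ULift.{u} (Equiv.Perm (Fin d)) →
        Γ(SymProd.fibPow f d, V) →ₗ[Γ(S, S₀)] Γ(SymProd.fibPow f d, V)),
      (∀ g' a, σ g' a = ((SymProd.permActU f d g'⁻¹).hom.appLE V V (hVs _)).hom a) →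
      (∀ a, (∀ g', σ g' a = a) → a ∈ Set.range ι) →
      ∀ z : R' ⊗[Γ(S, S₀)] Γ(SymProd.fibPow f d, V),
        (∀ g', (σ g').lTensor R' z = z) → z ∈ LinearMap.range (ι.toLinearMap.lTensor R') := by
  letI := ((WidePullback.base (fun _ : Fin d => f)).appLE S₀ V hVS).hom.toAlgebra
  intro B _ _ ι σ hσ hfix z hz
  let hS' : Spec (CommRingCat.of R') ⟶ S :=
    Spec.map (CommRingCat.ofHom (algebraMap Γ(S, S₀) R')) ≫ hS₀.fromSpec
  let f' := pullback.snd f hS'
  let w := pullback.condition (f := f) (g := hS')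
  let Φ := powBC f f' (pullback.fst f hS') hS' w d
  have htop : (⊤ : (Spec (CommRingCat.of R')).Opens) ≤ hS' ⁻¹ᵁ S₀ := fun x _ => by
    show hS'.base x ∈ (S₀ : Set S)
    rw [← hS₀.range_fromSpec]
    exact ⟨_, rfl⟩
  set V' := Φ ⁻¹ᵁ V ⊓ baseOpen f' d ⊤ with hV'def
  have H := isPullback_powBC f d hS'
  have hpo := (isIso_pushoutSection_iff H (US := S₀) (UT := ⊤) (UX := V) htop hVS hV'def).1
    (isIso_pushoutSection_of_isAffineOpen H htop hVS hV'def hS₀ (isAffineOpen_top _) hV)
  let Rt := Γ(Spec (CommRingCat.of R'), ⊤)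
  letI algRt : Algebra Γ(S, S₀) Rt := (hS'.appLE S₀ ⊤ htop).hom.toAlgebra
  letI algRA := ((WidePullback.base (fun _ : Fin d => f')).appLE ⊤ V' inf_le_right).hom.toAlgebra
  letI algAA := (Φ.appLE V V' inf_le_left).hom.toAlgebra
  letI algSA := (((WidePullback.base (fun _ : Fin d => f')).appLE ⊤ V' inf_le_right).hom.comp
    (hS'.appLE S₀ ⊤ htop).hom).toAlgebra
  haveI : IsScalarTower Γ(S, S₀) Rt Γ(SymProd.fibPow f' d, V') := IsScalarTower.of_algebraMap_eq' rfl
  haveI : IsScalarTower Γ(S, S₀) Γ(SymProd.fibPow f d, V) Γ(SymProd.fibPow f' d, V') :=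
    IsScalarTower.of_algebraMap_eq' (congrArg CommRingCat.Hom.hom hpo.w).symm
  haveI : Algebra.IsPushout Γ(S, S₀) Rt Γ(SymProd.fibPow f d, V) Γ(SymProd.fibPow f' d, V') :=
    CommRingCat.isPushout_iff_isPushout.1 hpo.flip
  let e := Algebra.IsPushout.equiv Γ(S, S₀) Rt Γ(SymProd.fibPow f d, V) Γ(SymProd.fibPow f' d, V')
  have he : ∀ (r : Rt) (a : Γ(SymProd.fibPow f d, V)), e (r ⊗ₜ a) =
      algebraMap Rt Γ(SymProd.fibPow f' d, V') r * (Φ.appLE V V' inf_le_left).hom a :=
    fun r a => by simp [e, Algebra.IsPushout.equiv_tmul]; rfl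
  -- the two rings of coefficients agree
  have hΓ : ∀ a, ((hS'.appLE S₀ ⊤ htop) ≫ (Scheme.ΓSpecIso (CommRingCat.of R')).hom).hom a =
      algebraMap Γ(S, S₀) R' a := by
    intro a
    have h0 : (hS'.appLE S₀ ⊤ htop) ≫ (Scheme.ΓSpecIso (CommRingCat.of R')).hom =
        CommRingCat.ofHom (algebraMap Γ(S, S₀) R') := SpecMap_fromSpec_appLE' hS₀ _ _
    exact congr(($h0).hom a)
  let θ : Rt ≃ₐ[Γ(S, S₀)] R' :=
    AlgEquiv.ofRingEquiv (f := (Scheme.ΓSpecIso (CommRingCat.of R')).commRingCatIsoToRingEquiv) hΓ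
  obtain ⟨z, rfl⟩ : ∃ y, θ.toLinearMap.rTensor Γ(SymProd.fibPow f d, V) y = z :=
    LinearMap.rTensor_surjective _ θ.surjective z
  have hzfix : ∀ g', (σ g').lTensor Rt z = z := fun g' => by
    apply (θ.toLinearEquiv.rTensor Γ(SymProd.fibPow f d, V)).injective
    show θ.toLinearMap.rTensor _ ((σ g').lTensor Rt z) = θ.toLinearMap.rTensor _ z
    rw [← LinearMap.comp_apply, LinearMap.rTensor_comp_lTensor, ← LinearMap.lTensor_comp_rTensor,
      LinearMap.comp_apply]
    exact hz g'
  suffices z ∈ LinearMap.range (ι.toLinearMap.lTensor Rt) by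
    obtain ⟨b, rfl⟩ := this
    refine ⟨θ.toLinearMap.rTensor B b, ?_⟩
    rw [← LinearMap.comp_apply, ← LinearMap.comp_apply, LinearMap.lTensor_comp_rTensor,
      ← LinearMap.rTensor_comp_lTensor]
  letI := SGA1Q.secAction (SymProd.permActU f d) V hVs
  letI := SGA1Q.secAction (SymProd.permActU f' d) V'
    (preimage_inf_stable f f' (pullback.fst f hS') hS' w d hVs ⊤)
  have heσ : ∀ g' y, g' • e y = e ((σ g').lTensor Rt y) := by
    intro g' y
    induction y using TensorProduct.induction_on with
    | zero => simp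
    | tmul r a =>
      rw [he, LinearMap.lTensor_tmul, he, smul_mul']
      congr 1
      · exact smul_appLE_invariant (WidePullback.base (fun _ : Fin d => f'))
          (fun g => SymProd.permHom_base f' d g.down)
          (preimage_inf_stable f f' (pullback.fst f hS') hS' w d hVs ⊤) inf_le_right g' r
      · rw [hσ]
        exact (appLE_smul Φ (fun g => permHom_powBC f f' (pullback.fst f hS') hS' w d g.down) hVs
          (preimage_inf_stable f f' (pullback.fst f hS') hS' w d hVs ⊤) inf_le_left g' a).symm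
    | add a b ha hb => simp only [map_add, smul_add, ha, hb]
  have hmem := mem_invSpan_powBC f f' (pullback.fst f hS') hS' w d hS₀ (isAffineOpen_top _) htop
    hV hVs hVS (e z) (fun g' => by rw [heσ, hzfix])
  suffices key : ∀ v ∈ invSpan Rt (Φ.appLE V V' inf_le_left).hom
      (⊤ : Subgroup (ULift.{u} (Equiv.Perm (Fin d)))),
      e.symm v ∈ LinearMap.range (ι.toLinearMap.lTensor Rt) by
    simpa using key _ hmem
  intro v hv
  induction hv using Submodule.span_induction with
  | mem x hx =>
    obtain ⟨a, ha, rfl⟩ := hx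
    obtain ⟨b, rfl⟩ := hfix a fun g' => (hσ g' a).trans (ha g' (Subgroup.mem_top _))
    refine ⟨1 ⊗ₜ b, e.injective ?_⟩
    rw [LinearMap.lTensor_tmul, he, map_one, one_mul, AlgEquiv.apply_symm_apply]
    rfl
  | zero => rw [map_zero]; exact zero_mem _
  | add a b _ _ ha hb => rw [map_add]; exact add_mem ha hb
  | smul r a _ ha =>
    obtain ⟨b, hb⟩ := ha
    rw [map_smul, ← hb]
    refine ⟨r • b, ?_⟩
    clear hb
    induction b using TensorProduct.induction_on with
    | zero => simp
    | tmul r' b => simp [TensorProduct.smul_tmul']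
    | add x y hx hy => simp only [smul_add, map_add, hx, hy]
where
  SpecMap_fromSpec_appLE' {T : Scheme.{u}} {W : T.Opens} (hW : IsAffineOpen W) {K : CommRingCat.{u}}
      (φ : Γ(T, W) ⟶ K) (e : ⊤ ≤ (Spec.map φ ≫ hW.fromSpec) ⁻¹ᵁ W) :
      (Spec.map φ ≫ hW.fromSpec).appLE W ⊤ e ≫ (Scheme.ΓSpecIso K).hom = φ := by
    have he : (⊤ : (Spec Γ(T, W)).Opens) ≤ hW.fromSpec ⁻¹ᵁ W := hW.fromSpec_preimage_self.ge
    have h2 : hW.fromSpec.appLE W ⊤ he = (Scheme.ΓSpecIso Γ(T, W)).inv := by
      rw [Scheme.Hom.appLE, hW.fromSpec_app_self, Category.assoc, ← Functor.map_comp,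
        Subsingleton.elim (_ ≫ (homOfLE he).op) (𝟙 _), CategoryTheory.Functor.map_id,
        Category.comp_id]
    have he' : (⊤ : (Spec K).Opens) ≤ Spec.map φ ⁻¹ᵁ ⊤ := fun _ _ => trivial
    rw [← Scheme.Hom.appLE_comp_appLE (Spec.map φ) hW.fromSpec W ⊤ ⊤ he he', Category.assoc, h2,
      show (Spec.map φ).appLE ⊤ ⊤ he' = (Spec.map φ).appTop from Scheme.Hom.appLE_eq_app _,
      Scheme.ΓSpecIso_naturality, Iso.inv_hom_id_assoc]

open TrivSqZeroExt in
/-- **Universal injectivity of the invariants.** -/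
theorem lTensor_invariants_injective [Flat f] {S₀ : S.Opens} (hS₀ : IsAffineOpen S₀)
    {V : (SymProd.fibPow f d).Opens} (hV : IsAffineOpen V)
    (hVs : ∀ g', V ≤ (SymProd.permActU f d g').hom ⁻¹ᵁ V) (hVS : V ≤ baseOpen f d S₀) :
    letI := ((WidePullback.base (fun _ : Fin d => f)).appLE S₀ V hVS).hom.toAlgebra
    ∀ (B : Type u) [CommRing B] [Algebra Γ(S, S₀) B] (ι : B →ₐ[Γ(S, S₀)] Γ(SymProd.fibPow f d, V)),
      Function.Injective ι →
      (∀ g' b, ((SymProd.permActU f d g').hom.appLE V V (hVs _)).hom (ι b) = ι b) →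
      (∀ a, (∀ g', ((SymProd.permActU f d g').hom.appLE V V (hVs _)).hom a = a) → a ∈ Set.range ι) →
      ∀ (M : Type u) [AddCommGroup M] [Module Γ(S, S₀) M],
        Function.Injective (ι.toLinearMap.lTensor M) := by
  letI := ((WidePullback.base (fun _ : Fin d => f)).appLE S₀ V hVS).hom.toAlgebra
  intro B _ _ ι hι hfix hrange
  haveI := flat_base f d
  haveI : Module.Flat Γ(S, S₀) Γ(SymProd.fibPow f d, V) :=
    (WidePullback.base (fun _ : Fin d => f)).flat_appLE hS₀ hV hVS
  let σ : ULift.{u} (Equiv.Perm (Fin d)) →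
      Γ(SymProd.fibPow f d, V) →ₗ[Γ(S, S₀)] Γ(SymProd.fibPow f d, V) := fun g' =>
    (AlgHom.toLinearMap
      { ((SymProd.permActU f d g'⁻¹).hom.appLE V V (hVs _)).hom with
        commutes' := fun r => smul_appLE_invariant (ρP := SymProd.permActU f d)
          (WidePullback.base (fun _ : Fin d => f)) (fun g => SymProd.permHom_base f d g.down) hVs hVS g' r })
  refine fun M _ _ => lTensor_injective_of_surjective σ ι.toLinearMap hι (fun g' b => hfix g'⁻¹ b) ?_ M
  intro M _ _ z hz
  letI : Module Γ(S, S₀)ᵐᵒᵖ M := Module.compHom M ((RingHom.id Γ(S, S₀)).fromOpposite mul_comm)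
  haveI : IsCentralScalar Γ(S, S₀) M := ⟨fun r m => rfl⟩
  have h := spans_tensor f d hS₀ hV hVs hVS (TrivSqZeroExt Γ(S, S₀) M) B ι σ (fun g' a => rfl)
    (fun a ha => hrange a fun g' => by
      have e : ((SymProd.permActU f d g'⁻¹⁻¹).hom.appLE V V (hVs _)).hom a = a := ha g'⁻¹
      simp only [inv_inv] at e
      exact e)
    ((inrHom Γ(S, S₀) M).rTensor _ z) fun g' => by
      rw [← LinearMap.comp_apply, LinearMap.lTensor_comp_rTensor, ← LinearMap.rTensor_comp_lTensor,
        LinearMap.comp_apply, hz g']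
  obtain ⟨b, hb⟩ := h
  refine ⟨(sndHom Γ(S, S₀) M).rTensor _ b, ?_⟩
  have := congrArg ((sndHom Γ(S, S₀) M).rTensor _) hb
  rw [← LinearMap.comp_apply, LinearMap.rTensor_comp_lTensor, ← LinearMap.lTensor_comp_rTensor,
    LinearMap.comp_apply, ← LinearMap.comp_apply (f := (sndHom Γ(S, S₀) M).rTensor _),
    ← LinearMap.rTensor_comp,
    show sndHom Γ(S, S₀) M ∘ₗ inrHom Γ(S, S₀) M = LinearMap.id from LinearMap.ext fun x => rfl,
    LinearMap.rTensor_id, LinearMap.id_apply] at this
  exact this

end BaseChange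

end H9SymQ
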