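import Mathlib.RingTheory.Invariant.Basic
import Mathlib.RingTheory.Ideal.GoingUp
import Mathlib.GroupTheory.GroupAction.Quotient
import Mathlib.RingTheory.Nilpotent.Basic

/-!
# Spanning of invariants, locally

For a finite group acting on rings `A → A'` (and trivially on a coefficient ring `R'` of `A'`), the
invariants of `A'` are spanned over `R'` by the images of those of `A` once this holds near every
prime for the invariants of a subgroup separating the translates (`mem_invSpan_of_local`); the local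
property can be read off a chart having it for the whole group (`exists_pow_mul_mem_invSpan`).
-/

set_option autoImplicit false
set_option backward.isDefEq.respectTransparency false
set_option backward.isDefEq.respectTransparency.types false

universe u

namespace H9SymQ

open scoped Classical

variable {G : Type u} [Group G] {A A' R' : Type u} [CommRing A] [CommRing A'] [CommRing R']
  [MulSemiringAction G A] [MulSemiringAction G A'] [Algebra R' A']

variable (R') in
/-- The `R'`-span of the images of the `H`-fixed elements. -/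
def invSpan (φ : A →+* A') (H : Subgroup G) : Submodule R' A' :=
  Submodule.span R' (φ '' {a | ∀ h ∈ H, h • a = a})

variable {φ : A →+* A'} {H : Subgroup G}

lemma map_mem_invSpan {a : A} (ha : ∀ h ∈ H, h • a = a) : φ a ∈ invSpan R' φ H :=
  Submodule.subset_span ⟨a, ha, rfl⟩

lemma one_mem_invSpan : (1 : A') ∈ invSpan R' φ H := by
  rw [← map_one φ]
  exact map_mem_invSpan fun h _ => smul_one h

lemma mul_mem_invSpan {x y : A'} (hx : x ∈ invSpan R' φ H) (hy : y ∈ invSpan R' φ H) :
    x * y ∈ invSpan R' φ H := by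
  have h := Submodule.mul_mem_mul hx hy
  rw [invSpan, Submodule.span_mul_span] at h
  refine Submodule.span_mono ?_ h
  rintro _ ⟨_, ⟨a, ha, rfl⟩, _, ⟨b, hb, rfl⟩, rfl⟩
  exact ⟨a * b, fun k hk => by rw [smul_mul', ha k hk, hb k hk], map_mul _ _ _⟩

lemma map_pow_fixed {a : A} (ha : ∀ h ∈ H, h • a = a) (n : ℕ) : ∀ h ∈ H, h • a ^ n = a ^ n :=
  fun h hh => by rw [smul_pow', ha h hh]

lemma smul_map {g : G} (hφ : ∀ (g : G) a, φ (g • a) = g • φ a) (a : A) : g • φ a = φ (g • a) :=
  (hφ g a).symm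

/-- Elements fixed by `H` have well-defined translates by cosets of `H`. -/
lemma smul_eq_smul_of_quotient_eq {B : Type u} [Monoid B] [MulAction G B] (g g' : G) (b : B)
    (hb : ∀ h ∈ H, h • b = b) (h : (g : G ⧸ H) = g') : g • b = g' • b := by
  obtain ⟨k, hk, rfl⟩ : ∃ k ∈ H, g' = g * k :=
    ⟨g⁻¹ * g', QuotientGroup.eq.1 h, by group⟩
  rw [mul_smul, hb k hk]

variable [Finite G]

/-- The relative trace over the cosets of `H`. -/
noncomputable def trH {B : Type u} [AddCommMonoid B] [DistribMulAction G B] (H : Subgroup G) (b : B) : B :=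
  letI : Fintype (G ⧸ H) := Fintype.ofFinite _
  ∑ q : G ⧸ H, (Quotient.out q : G) • b

lemma smul_trH {B : Type u} [CommRing B] [MulSemiringAction G B] {b : B}
    (hb : ∀ h ∈ H, h • b = b) (g : G) : g • trH H b = trH H b := by
  letI : Fintype (G ⧸ H) := Fintype.ofFinite _
  rw [trH, Finset.smul_sum]
  refine Fintype.sum_equiv (MulAction.toPerm g) _ _ fun q => ?_
  rw [← mul_smul]
  refine smul_eq_smul_of_quotient_eq _ _ b hb ?_
  rw [MulAction.toPerm_apply]
  exact (congrArg (g • ·) (QuotientGroup.out_eq' q)).trans (QuotientGroup.out_eq' (g • q)).symm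

/-- Against an element killing the other translates, the trace is the element itself. -/
lemma trH_mul_eq {B : Type u} [CommRing B] [MulSemiringAction G B] {b e : B}
    (hb : ∀ h ∈ H, h • b = b) (h0 : ∀ g ∉ H, (g • b) * e = 0) : trH H b * e = b * e := by
  letI : Fintype (G ⧸ H) := Fintype.ofFinite _
  rw [trH, Finset.sum_mul]
  rw [Finset.sum_eq_single (QuotientGroup.mk 1 : G ⧸ H) (fun q _ hq => h0 _ fun hmem => hq ?_)
    (fun h => absurd (Finset.mem_univ _) h)]
  · congr 1
    have := smul_eq_smul_of_quotient_eq _ (1 : G) b hb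
      (QuotientGroup.out_eq' (QuotientGroup.mk 1 : G ⧸ H))
    rw [this, one_smul]
  · rw [← QuotientGroup.out_eq' q]
    exact QuotientGroup.eq.2 (by simpa using inv_mem hmem)

/-- Traces of spans of `H`-invariants lie in the span of invariants. -/
lemma trH_mem_invSpan (hφ : ∀ (g : G) a, φ (g • a) = g • φ a)
    (hR : ∀ (g : G) (r : R'), g • algebraMap R' A' r = algebraMap R' A' r) {x : A'}
    (hx : x ∈ invSpan R' φ H) : trH H x ∈ invSpan R' φ (⊤ : Subgroup G) := by
  letI : Fintype (G ⧸ H) := Fintype.ofFinite _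
  induction hx using Submodule.span_induction with
  | mem w hw =>
    obtain ⟨a, ha, rfl⟩ := hw
    have : trH H (φ a) = φ (trH H a) := by
      simp only [trH, map_sum, hφ]
    rw [this]
    exact map_mem_invSpan fun g _ => smul_trH ha g
  | zero => simp [trH, zero_mem]
  | add a b _ _ ha hb =>
    have : trH H (a + b) = trH H a + trH H b := by
      simp only [trH, smul_add, Finset.sum_add_distrib]
    rw [this]
    exact add_mem ha hb
  | smul r a _ ha =>
    have : trH H (r • a) = r • trH H a := by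
      simp only [trH, Algebra.smul_def, smul_mul', hR, Finset.mul_sum]
    rw [this]
    exact Submodule.smul_mem _ r ha

/-- **Invariants are spanned by invariants, if they are so locally.** -/
theorem mem_invSpan_of_local (hφ : ∀ (g : G) a, φ (g • a) = g • φ a)
    (hR : ∀ (g : G) (r : R'), g • algebraMap R' A' r = algebraMap R' A' r)
    (hgen : Algebra.adjoin R' (Set.range φ) = ⊤)
    (hloc : ∀ w : Ideal A', w.IsPrime → ∃ (H : Subgroup G) (t : A), (∀ h ∈ H, h • t = t) ∧
      φ t ∉ w ∧ (∀ g ∉ H, φ (g • t) ∈ w) ∧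
      ∀ y : A', (∀ h ∈ H, h • y = y) → ∃ N : ℕ, φ t ^ N * y ∈ invSpan R' φ H)
    (y : A') (hy : ∀ g : G, g • y = y) : y ∈ invSpan R' φ (⊤ : Subgroup G) := by
  haveI : Fintype G := Fintype.ofFinite G
  let B : Subalgebra R' A' := (invSpan R' φ (⊤ : Subgroup G)).toSubalgebra one_mem_invSpan
    fun _ _ => mul_mem_invSpan
  let I : Ideal B :=
    { carrier := {b : B | (b : A') * y ∈ invSpan R' φ (⊤ : Subgroup G)}
      add_mem' := fun {a b} ha hb => by
        show ((a : A') + b) * y ∈ invSpan R' φ (⊤ : Subgroup G)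
        rw [add_mul]
        exact add_mem ha hb
      zero_mem' := by
        show (0 : A') * y ∈ invSpan R' φ (⊤ : Subgroup G)
        rw [zero_mul]
        exact zero_mem _
      smul_mem' := fun c b hb => by
        show ((c : A') * b) * y ∈ invSpan R' φ (⊤ : Subgroup G)
        rw [mul_assoc]
        exact mul_mem_invSpan c.2 hb }
  suffices I = ⊤ by
    have h1 : (1 : B) ∈ I := this ▸ Submodule.mem_top
    simpa [I] using h1
  by_contra hne
  obtain ⟨P, hP, hIP⟩ := Ideal.exists_le_maximal I hne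
  haveI : Algebra.IsIntegral B A' := by
    refine ⟨fun x => ?_⟩
    have hx : x ∈ Algebra.adjoin R' (Set.range φ) := hgen ▸ Algebra.mem_top
    induction hx using Algebra.adjoin_induction with
    | mem w hw =>
      obtain ⟨a, rfl⟩ := hw
      refine ⟨((MulSemiringAction.charpoly G a).map φ).toSubring B.toSubring ?_,
        Polynomial.monic_toSubring _ _ _ |>.2 ((MulSemiringAction.monic_charpoly G a).map φ), ?_⟩
      · intro c hc
        obtain ⟨n, -, rfl⟩ := Polynomial.mem_coeffs_iff.1 (Finset.mem_coe.1 hc)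
        rw [Polynomial.coeff_map]
        exact map_mem_invSpan fun g _ => MulSemiringAction.smul_coeff_charpoly a n g
      · have h0 : Polynomial.eval (φ a) ((MulSemiringAction.charpoly G a).map φ) = 0 := by
          rw [Polynomial.eval_map, Polynomial.eval₂_hom,
            MulSemiringAction.eval_charpoly G a, map_zero]
        convert h0 using 1
        rw [← Polynomial.eval_map]
        congr 1
        exact Polynomial.map_toSubring _ B.toSubring _
    | algebraMap r => exact isIntegral_algebraMap (R := B) (x := (algebraMap R' B r))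
    | add a b _ _ ha hb => exact ha.add hb
    | mul a b _ _ ha hb => exact ha.mul hb
  obtain ⟨w, -, hwp, hwcomap⟩ := Ideal.exists_ideal_over_prime_of_isIntegral P (⊥ : Ideal A') (by
    intro b hb
    rw [Ideal.mem_comap, Ideal.mem_bot] at hb
    have : b = 0 := Subtype.ext hb
    rw [this]
    exact zero_mem _)
  obtain ⟨H, t, ht, htw, hoth, hspan⟩ := hloc w hwp
  obtain ⟨N, hN⟩ := hspan y fun h _ => hy h
  have hN1 : φ t ^ (N + 1) * y ∈ invSpan R' φ H := by
    rw [pow_succ', mul_assoc]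
    exact mul_mem_invSpan (map_mem_invSpan ht) hN
  have htr := trH_mem_invSpan hφ hR hN1
  have heq : trH H (φ t ^ (N + 1) * y) = trH H (φ t ^ (N + 1)) * y := by
    simp only [trH, smul_mul', hy, Finset.sum_mul]
  rw [heq] at htr
  have hs : trH H (φ t ^ (N + 1)) ∈ invSpan R' φ (⊤ : Subgroup G) :=
    trH_mem_invSpan hφ hR (by rw [← map_pow]; exact map_mem_invSpan (map_pow_fixed ht _))
  have hsI : (⟨_, hs⟩ : B) ∈ I := htr
  have hsw : trH H (φ t ^ (N + 1)) ∈ w := by
    have := hIP hsI
    rw [← hwcomap] at this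
    exact this
  letI : Fintype (G ⧸ H) := Fintype.ofFinite _
  have : φ t ^ (N + 1) ∈ w := by
    rw [trH, ← Finset.add_sum_erase _ _ (Finset.mem_univ (QuotientGroup.mk 1 : G ⧸ H))] at hsw
    have h1 : ((Quotient.out (QuotientGroup.mk 1 : G ⧸ H)) : G) • φ t ^ (N + 1) = φ t ^ (N + 1) := by
      rw [smul_eq_smul_of_quotient_eq (H := H) _ (1 : G) _
        (fun h hh => by rw [smul_pow', ← hφ, ht h hh]) (QuotientGroup.out_eq' _), one_smul]
    rw [h1] at hsw
    refine (Ideal.add_mem_iff_left w (Ideal.sum_mem _ fun q hq => ?_)).1 hsw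
    rw [smul_pow', ← hφ]
    refine Ideal.pow_mem_of_mem _ (hoth _ fun hmem => (Finset.mem_erase.1 hq).1 ?_) _ N.succ_pos
    rw [← QuotientGroup.out_eq' q]
    exact QuotientGroup.eq.2 (by simpa using inv_mem hmem)
  exact htw (hwp.mem_of_pow_mem _ this)

/-- The conditions for `L` to be obtained from `A` by inverting `t`. -/
structure IsAway {A L : Type u} [CommRing A] [CommRing L] (α : A →+* L) (t : A) : Prop where
  isUnit : IsUnit (α t)
  zero : ∀ a, α a = 0 → ∃ n : ℕ, t ^ n * a = 0
  surj : ∀ l, ∃ (n : ℕ) (a : A), l * α t ^ n = α a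

/-- Invariants of a localisation come from invariants. -/
lemma IsAway.exists_fixed {A L : Type u} [CommRing A] [CommRing L] [MulSemiringAction G A]
    {α : A →+* L} {t : A} (hα : IsAway α t) (H : Subgroup G) (ht : ∀ h ∈ H, h • t = t)
    (σ : G → L →+* L) (hσ : ∀ h ∈ H, ∀ a, σ h (α a) = α (h • a)) (l : L)
    (hl : ∀ h ∈ H, σ h l = l) :
    ∃ (n : ℕ) (a : A), (∀ h ∈ H, h • a = a) ∧ l * α t ^ n = α a := by
  haveI : Fintype G := Fintype.ofFinite G
  obtain ⟨n, a, ha⟩ := hα.surj l
  have hex : ∀ h : G, ∃ k : ℕ, h ∈ H → t ^ k * (h • a) = t ^ k * a := by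
    intro h
    by_cases hh : h ∈ H
    · have : α (h • a - a) = 0 := by
        rw [map_sub, ← hσ h hh, ← ha, map_mul, map_pow, hl h hh, hσ h hh, ht h hh, sub_self]
      obtain ⟨k, hk⟩ := hα.zero _ this
      exact ⟨k, fun _ => by rw [← sub_eq_zero, ← mul_sub, hk]⟩
    · exact ⟨0, fun h' => absurd h' hh⟩
  choose k hk using hex
  refine ⟨n + Finset.univ.sup k, t ^ (Finset.univ.sup k) * a, fun h hh => ?_, ?_⟩
  · rw [smul_mul', smul_pow', ht h hh,
      ← Nat.sub_add_cancel (Finset.le_sup (f := k) (Finset.mem_univ h)), pow_add, mul_assoc,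
      hk h hh, mul_assoc]
  · rw [map_mul, map_pow, pow_add, ← mul_assoc, ha]
    ring

variable {T T' L L' : Type u} [CommRing T] [CommRing T'] [CommRing L] [CommRing L']
  [MulSemiringAction G T] [MulSemiringAction G T'] [Algebra R' T'] [Algebra R' L']

/-- **Transfer from a chart.** -/
theorem exists_pow_mul_mem_invSpan (H : Subgroup G)
    (χ : T →+* T') (ξ : L →+* L') (α : A →+* L) (β : T →+* L) (α' : A' →ₐ[R'] L')
    (β' : T' →ₐ[R'] L') (hξα : ∀ a, ξ (α a) = α' (φ a)) (hξβ : ∀ b, ξ (β b) = β' (χ b))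
    (hχ : ∀ (g : G) b, χ (g • b) = g • χ b)
    (hR : ∀ (g : G) (r : R'), g • algebraMap R' T' r = algebraMap R' T' r)
    (t : A) (t' : T) (ht : ∀ h ∈ H, h • t = t) (ht' : ∀ h ∈ H, h • t' = t')
    (hα : IsAway α t) (hβ : IsAway β t') (hα' : IsAway α'.toRingHom (φ t))
    (hβ' : IsAway β'.toRingHom (χ t'))
    (σ : G → L →+* L) (σ' : G → L' →+* L')
    (hσα : ∀ h ∈ H, ∀ a, σ h (α a) = α (h • a)) (hσβ : ∀ h ∈ H, ∀ b, σ h (β b) = β (h • b))
    (hσα' : ∀ h ∈ H, ∀ a, σ' h (α' a) = α' (h • a))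
    (hσβ' : ∀ h ∈ H, ∀ b, σ' h (β' b) = β' (h • b))
    (hT : ∀ z : T', (∀ g : G, g • z = z) → z ∈ invSpan R' χ (⊤ : Subgroup G))
    (hdisj : ∀ g ∉ H, IsNilpotent ((g • t') * t'))
    (y : A') (hy : ∀ h ∈ H, h • y = y) : ∃ N : ℕ, φ t ^ N * y ∈ invSpan R' φ H := by
  haveI : Fintype G := Fintype.ofFinite G
  -- write `y` in the chart with an invariant numerator
  obtain ⟨n, z, hzfix, hz⟩ := hβ'.exists_fixed H
    (fun h hh => by rw [← hχ, ht' h hh]) σ' hσβ' (α' y)
    (fun h hh => by rw [hσα' h hh, hy h hh])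
  -- make the other translates vanish
  choose K hK using fun g : {g : G // g ∉ H} => hdisj g.1 g.2
  set M := Finset.univ.sup K with hM
  have hkill : ∀ g ∉ H, (g • χ t' ^ M) * χ t' ^ M = 0 := by
    intro g hg
    rw [smul_pow', ← mul_pow, ← hχ, ← map_mul, ← map_pow]
    have hle : K ⟨g, hg⟩ ≤ M := Finset.le_sup (f := K) (Finset.mem_univ _)
    rw [← Nat.sub_add_cancel hle, pow_add, hK ⟨g, hg⟩, mul_zero, map_zero]
  set z₂ := χ t' ^ M * z with hz₂
  have hz₂fix : ∀ h ∈ H, h • z₂ = z₂ := fun h hh => by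
    rw [hz₂, smul_mul', smul_pow', hzfix h hh, ← hχ, ht' h hh]
  have hv : z₂ * χ t' ^ M ∈ invSpan R' χ H := by
    rw [← trH_mul_eq hz₂fix fun g hg => by
      rw [hz₂, smul_mul', mul_right_comm, hkill g hg, zero_mul]]
    refine mul_mem_invSpan ?_ (by rw [← map_pow]; exact map_mem_invSpan (map_pow_fixed ht' _))
    have h1 := hT (trH H z₂) fun g => smul_trH hz₂fix g
    refine Submodule.span_mono (Set.image_mono ?_) h1
    exact fun a ha h _ => ha h (Subgroup.mem_top h)
  -- divide in `L`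
  obtain ⟨u, hu⟩ := hβ.isUnit.pow (n + M + M)
  have key : ∀ v ∈ invSpan R' χ H, ∃ (N : ℕ), ∃ x ∈ invSpan R' φ H,
      β' v * ξ (↑u⁻¹ : L) * α' (φ t) ^ N = α' x := by
    intro v hv
    induction hv using Submodule.span_induction with
    | mem w hw =>
      obtain ⟨b, hb, rfl⟩ := hw
      have hlfix : ∀ h ∈ H, σ h (β b * (↑u⁻¹ : L)) = β b * (↑u⁻¹ : L) := by
        intro h hh
        have hu' : σ h (u : L) = u := by rw [hu, map_pow, hσβ h hh, ht' h hh]
        rw [map_mul, hσβ h hh, hb h hh]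
        congr 1
        calc σ h (↑u⁻¹ : L) = σ h (↑u⁻¹ : L) * ((u : L) * ↑u⁻¹) := by simp
          _ = σ h (↑u⁻¹ : L) * σ h (u : L) * ↑u⁻¹ := by rw [hu', mul_assoc]
          _ = ↑u⁻¹ := by rw [← map_mul, Units.inv_mul, map_one, one_mul]
      obtain ⟨N, a, hafix, ha⟩ := hα.exists_fixed H ht σ hσα _ hlfix
      refine ⟨N, φ a, map_mem_invSpan hafix, ?_⟩
      rw [← hξβ, ← hξα, ← map_mul, ← map_pow, ← map_mul, ha, hξα]
    | zero => exact ⟨0, 0, zero_mem _, by simp⟩
    | add a b _ _ ha hb =>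
      obtain ⟨N, x, hx, hxe⟩ := ha
      obtain ⟨N', x', hx', hxe'⟩ := hb
      refine ⟨N + N', φ t ^ N' * x + φ t ^ N * x', add_mem (mul_mem_invSpan ?_ hx)
        (mul_mem_invSpan ?_ hx'), ?_⟩
      · rw [← map_pow]; exact map_mem_invSpan (map_pow_fixed ht _)
      · rw [← map_pow]; exact map_mem_invSpan (map_pow_fixed ht _)
      · simp only [map_add, map_mul, map_pow, ← hxe, ← hxe']
        ring
    | smul r a _ ha =>
      obtain ⟨N, x, hx, hxe⟩ := ha
      exact ⟨N, r • x, Submodule.smul_mem _ r hx, by rw [map_smul, map_smul, ← hxe,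
        Algebra.smul_mul_assoc, Algebra.smul_mul_assoc]⟩
  obtain ⟨N, x, hx, hxe⟩ := key _ hv
  have hy' : α'.toRingHom (φ t ^ N * y - x) = 0 := by
    show α' (φ t ^ N * y - x) = 0
    rw [map_sub, ← hxe, map_mul, map_pow, sub_eq_zero]
    have hu1 : ξ (↑u⁻¹ : L) * β' (χ t') ^ (n + M + M) = 1 := by
      rw [← hξβ, ← map_pow, ← hu, ← map_mul, Units.inv_mul, map_one]
    have hz' : α' y * β' (χ t') ^ n = β' z := hz
    calc α' (φ t) ^ N * α' y
        = α' (φ t) ^ N * α' y * (ξ (↑u⁻¹ : L) * β' (χ t') ^ (n + M + M)) := by rw [hu1, mul_one]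
      _ = (α' y * β' (χ t') ^ n * β' (χ t') ^ M * β' (χ t') ^ M) * ξ (↑u⁻¹ : L) *
            α' (φ t) ^ N := by ring
      _ = β' (z₂ * χ t' ^ M) * ξ (↑u⁻¹ : L) * α' (φ t) ^ N := by
          rw [hz', hz₂, map_mul, map_mul, map_pow]
          ring
  obtain ⟨k, hk⟩ := hα'.zero _ hy'
  refine ⟨k + N, ?_⟩
  rw [mul_sub, sub_eq_zero, ← mul_assoc, ← pow_add] at hk
  rw [hk, ← map_pow]
  exact mul_mem_invSpan (map_mem_invSpan (map_pow_fixed ht _)) hx

end H9SymQ
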