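import Groth.Agent.H9SymQ.Core
import Groth.Agent.SGA1Q.Properties
import Groth.Agent.SGA1Q.Residue
import Mathlib.AlgebraicGeometry.Morphisms.ClosedImmersion

/-!
# The comparison map between symmetric products over a change of base
-/

set_option autoImplicit false
set_option backward.isDefEq.respectTransparency false
set_option backward.isDefEq.respectTransparency.types false

universe u

open CategoryTheory CategoryTheory.Limits AlgebraicGeometry TopologicalSpace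

namespace H9SymQ

variable {X S X' S' : Scheme.{u}} (f : X ⟶ S) (f' : X' ⟶ S') (hX : X' ⟶ X) (hS : S' ⟶ S)
  (w : hX ≫ f = f' ≫ hS) (d : ℕ)

/-- The sections `A^G ⊗ R'` span the invariants over the given opens. -/
def Spans {S₀' : S'.Opens} {V : (SymProd.fibPow f d).Opens}
    (hVs : ∀ g, V ≤ (SymProd.permActU f d g).hom ⁻¹ᵁ V) : Prop :=
  letI := ((WidePullback.base (fun _ : Fin d => f')).appLE S₀'
    (powBC f f' hX hS w d ⁻¹ᵁ V ⊓ baseOpen f' d S₀') inf_le_right).hom.toAlgebra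
  letI := SGA1Q.secAction (SymProd.permActU f d) V hVs
  letI := SGA1Q.secAction (SymProd.permActU f' d)
    (powBC f f' hX hS w d ⁻¹ᵁ V ⊓ baseOpen f' d S₀') (preimage_inf_stable f f' hX hS w d hVs S₀')
  ∀ y : Γ(SymProd.fibPow f' d, powBC f f' hX hS w d ⁻¹ᵁ V ⊓ baseOpen f' d S₀'),
    (∀ g : ULift.{u} (Equiv.Perm (Fin d)), g • y = y) →
    y ∈ invSpan Γ(S', S₀') ((powBC f f' hX hS w d).appLE V
      (powBC f f' hX hS w d ⁻¹ᵁ V ⊓ baseOpen f' d S₀') inf_le_left).hom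
      (⊤ : Subgroup (ULift.{u} (Equiv.Perm (Fin d))))

/-- In characteristic prime to `d!` the invariants are spanned, with no flatness. -/
theorem spans_of_isUnit [IsClosedImmersion (pullback.lift hX f' w)] {S₀ : S.Opens} {S₀' : S'.Opens}
    (hS₀ : IsAffineOpen S₀) (hS₀' : IsAffineOpen S₀') (hle : S₀' ≤ hS ⁻¹ᵁ S₀)
    {V : (SymProd.fibPow f d).Opens} (hV : IsAffineOpen V)
    (hVs : ∀ g, V ≤ (SymProd.permActU f d g).hom ⁻¹ᵁ V) (hVS : V ≤ baseOpen f d S₀)
    (hn : ∀ n : ℕ, 0 < n → IsUnit ((n : ℕ) : Γ(S', ⊤))) :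
    Spans f f' hX hS w d (S₀' := S₀') hVs := by
  classical
  letI := ((WidePullback.base (fun _ : Fin d => f')).appLE S₀'
    (powBC f f' hX hS w d ⁻¹ᵁ V ⊓ baseOpen f' d S₀') inf_le_right).hom.toAlgebra
  letI := SGA1Q.secAction (SymProd.permActU f d) V hVs
  letI := SGA1Q.secAction (SymProd.permActU f' d)
    (powBC f f' hX hS w d ⁻¹ᵁ V ⊓ baseOpen f' d S₀') (preimage_inf_stable f f' hX hS w d hVs S₀')
  intro y hy
  obtain ⟨-, hgen⟩ := isAffineOpen_and_adjoin_eq_top (jPow f f' hX hS w d) (powBC f f' hX hS w d)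
    (WidePullback.base (fun _ : Fin d => f')) (pullback.lift_fst _ _ _) (pullback.lift_snd _ _ _)
    hS₀ hS₀' hV hVS hle
  let G := ULift.{u} (Equiv.Perm (Fin d))
  let φ := ((powBC f f' hX hS w d).appLE V
      (powBC f f' hX hS w d ⁻¹ᵁ V ⊓ baseOpen f' d S₀') inf_le_left).hom
  have hbot : y ∈ invSpan Γ(S', S₀') φ (⊥ : Subgroup G) := by
    suffices key : ∀ z ∈ Algebra.adjoin Γ(S', S₀') (Set.range φ),
        z ∈ invSpan Γ(S', S₀') φ (⊥ : Subgroup G) from key y (hgen ▸ Algebra.mem_top)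
    intro z' hz'
    induction hz' using Algebra.adjoin_induction with
    | mem z hz =>
      obtain ⟨a, rfl⟩ := hz
      exact map_mem_invSpan fun h hh => by rw [Subgroup.mem_bot.1 hh, one_smul]
    | algebraMap r =>
      rw [Algebra.algebraMap_eq_smul_one]
      exact Submodule.smul_mem _ r one_mem_invSpan
    | add a b _ _ ha hb => exact add_mem ha hb
    | mul a b _ _ ha hb => exact mul_mem_invSpan ha hb
  have htr := trH_mem_invSpan
    (fun g a => appLE_smul (powBC f f' hX hS w d)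
      (fun g => permHom_powBC f f' hX hS w d g.down) hVs
      (preimage_inf_stable f f' hX hS w d hVs S₀') inf_le_left g a)
    (fun g r => smul_appLE_invariant (WidePullback.base (fun _ : Fin d => f'))
      (fun g => SymProd.permHom_base f' d g.down) (preimage_inf_stable f f' hX hS w d hVs S₀')
      inf_le_right g r) hbot
  letI : Fintype (G ⧸ (⊥ : Subgroup G)) := Fintype.ofFinite _
  have hsum : trH (⊥ : Subgroup G) y =
      ((Fintype.card (G ⧸ (⊥ : Subgroup G)) : ℕ) : Γ(S', S₀')) • y := by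
    rw [trH, Finset.sum_congr rfl (fun q _ => hy _), Finset.sum_const, Nat.cast_smul_eq_nsmul]
    rfl
  have hu : IsUnit ((Fintype.card (G ⧸ (⊥ : Subgroup G)) : ℕ) : Γ(S', S₀')) := by
    have := (hn _ (Fintype.card_pos (α := G ⧸ (⊥ : Subgroup G)))).map (S'.presheaf.map (homOfLE (le_top (a := S₀'))).op).hom
    rwa [map_natCast] at this
  obtain ⟨v, hv⟩ := hu
  rw [hsum, ← hv] at htr
  have := Submodule.smul_mem _ (↑v⁻¹ : Γ(S', S₀')) htr
  rwa [smul_smul, Units.inv_mul, one_smul] at this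

section Quot

variable {Y Y' : Scheme.{u}} {q : SymProd.fibPow f d ⟶ Y} {g : Y ⟶ S}
  (hq : SymProd.IsSymProd f d q g) {r : SymProd.fibPow f' d ⟶ Y'}
  (hr : SGA1.IsQuot (SymProd.permActU f' d) r) (m : Y' ⟶ pullback g hS)
  (hm1 : r ≫ m ≫ pullback.fst g hS = powBC f f' hX hS w d ≫ q)
  (hm2 : r ≫ m ≫ pullback.snd g hS = WidePullback.base (fun _ : Fin d => f'))

/-- The affine piece of the target. -/
noncomputable abbrev piece (g : Y ⟶ S) (hS : S' ⟶ S) (Y₀ : Y.Opens) (S₀' : S'.Opens) :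
    (pullback g hS).Opens :=
  pullback.fst g hS ⁻¹ᵁ Y₀ ⊓ pullback.snd g hS ⁻¹ᵁ S₀'

variable {S₀ : S.Opens} {S₀' : S'.Opens} {Y₀ : Y.Opens}

include hm1 hm2 in
lemma preimage_piece :
    r ⁻¹ᵁ (m ⁻¹ᵁ piece g hS Y₀ S₀') =
      powBC f f' hX hS w d ⁻¹ᵁ (q ⁻¹ᵁ Y₀) ⊓ baseOpen f' d S₀' := by
  show (r ≫ m ≫ pullback.fst g hS) ⁻¹ᵁ Y₀ ⊓ (r ≫ m ≫ pullback.snd g hS) ⁻¹ᵁ S₀' = _
  rw [hm1, hm2]
  rfl

include hq in
lemma preimage_stable (g' : ULift.{u} (Equiv.Perm (Fin d))) :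
    q ⁻¹ᵁ Y₀ ≤ (SymProd.permActU f d g').hom ⁻¹ᵁ (q ⁻¹ᵁ Y₀) :=
  SGA1.preimage_le_of_inv _ q hq.isQuot.inv g' Y₀

include hq in
lemma preimage_le_baseOpen (hle0 : Y₀ ≤ g ⁻¹ᵁ S₀) : q ⁻¹ᵁ Y₀ ≤ baseOpen f d S₀ := by
  rw [baseOpen, ← hq.over, Scheme.Hom.comp_preimage]
  exact q.preimage_mono hle0

variable [IsClosedImmersion (pullback.lift hX f' w)]

include hq hr hm1 hm2 in
theorem isAffineOpen_preimage_piece (hY₀ : IsAffineOpen Y₀) (hS₀ : IsAffineOpen S₀)
    (hS₀' : IsAffineOpen S₀') (hle0 : Y₀ ≤ g ⁻¹ᵁ S₀) (hle : S₀' ≤ hS ⁻¹ᵁ S₀) :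
    IsAffineOpen (m ⁻¹ᵁ piece g hS Y₀ S₀') := by
  haveI := hq.isQuot.affine
  obtain ⟨hV', -⟩ := isAffineOpen_and_adjoin_eq_top (jPow f f' hX hS w d) (powBC f f' hX hS w d)
    (WidePullback.base (fun _ : Fin d => f')) (pullback.lift_fst _ _ _) (pullback.lift_snd _ _ _)
    hS₀ hS₀' (hY₀.preimage q) (preimage_le_baseOpen f d hq hle0) hle
  have hpre := preimage_piece f f' hX hS w d m hm1 hm2 (Y₀ := Y₀) (S₀' := S₀')
  set U := m ⁻¹ᵁ piece g hS Y₀ S₀'
  haveI : IsAffine (r ⁻¹ᵁ U).toScheme := hpre ▸ hV'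
  exact SGA1Q.isAffine_of_isQuot (SGA1Q.isQuot_morphismRestrict hr U
    (SGA1Q.restrictAction (SymProd.permActU f' d) (r ⁻¹ᵁ U)
      (fun g' => SGA1.preimage_le_of_inv _ r hr.inv g' U))
    (SGA1Q.restrictAction_hom_ι _ _ _))

include hq hr hm1 hm2 in
theorem isAffineHom_comparison : IsAffineHom m := by
  refine isAffineHom_of_forall_exists_isAffineOpen m fun z => ?_
  obtain ⟨S₀, hS₀, hzS, -⟩ := exists_isAffineOpen_mem_and_subset
    (x := g (pullback.fst g hS z)) (U := ⊤) trivial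
  obtain ⟨Y₀, hY₀, hzY, hle0⟩ := exists_isAffineOpen_mem_and_subset
    (x := pullback.fst g hS z) (U := g ⁻¹ᵁ S₀) hzS
  obtain ⟨S₀', hS₀', hzS', hle⟩ := exists_isAffineOpen_mem_and_subset
    (x := pullback.snd g hS z) (U := hS ⁻¹ᵁ S₀) (by
      show hS.base ((pullback.snd g hS).base z) ∈ S₀
      rw [show hS.base ((pullback.snd g hS).base z) = g.base ((pullback.fst g hS).base z) from
        (congr(($(pullback.condition (f := g) (g := hS))).base z)).symm]
      exact hzS)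
  refine ⟨piece g hS Y₀ S₀', ?_, ⟨hzY, hzS'⟩,
    isAffineOpen_preimage_piece f f' hX hS w d hq hr m hm1 hm2 hY₀ hS₀ hS₀' hle0 hle⟩
  exact (isAffineOpen_and_adjoin_eq_top (𝟙 (pullback g hS)) _ _ (Category.id_comp _)
    (Category.id_comp _) hS₀ hS₀' hY₀ hle0 hle).1
where
  isAffineHom_of_forall_exists_isAffineOpen {A B : Scheme.{u}} (h : A ⟶ B)
      (H : ∀ z : B, ∃ U : B.Opens, IsAffineOpen U ∧ z ∈ U ∧ IsAffineOpen (h ⁻¹ᵁ U)) :
      IsAffineHom h := by
    choose U hU hzU hpre using H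
    refine (HasAffineProperty.iff_of_iSup_eq_top (P := @IsAffineHom) (fun z => ⟨U z, hU z⟩) ?_).2
      fun z => hpre z
    exact eq_top_iff.2 fun z _ => Opens.mem_iSup.2 ⟨z, hzU z⟩

include hq in
omit [IsClosedImmersion (pullback.lift hX f' w)] in
/-- Spanned invariant sections come from the base change of the quotient. -/
theorem mem_range_of_spans
    (hsp : Spans f f' hX hS w d (S₀' := S₀') (preimage_stable f d hq (Y₀ := Y₀)))
    (n : SymProd.fibPow f' d ⟶ pullback g hS)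
    (hn1 : n ≫ pullback.fst g hS = powBC f f' hX hS w d ≫ q)
    (hn2 : n ≫ pullback.snd g hS = WidePullback.base (fun _ : Fin d => f'))
    (eν : powBC f f' hX hS w d ⁻¹ᵁ (q ⁻¹ᵁ Y₀) ⊓ baseOpen f' d S₀' ≤ n ⁻¹ᵁ piece g hS Y₀ S₀')
    (v : Γ(SymProd.fibPow f' d, powBC f f' hX hS w d ⁻¹ᵁ (q ⁻¹ᵁ Y₀) ⊓ baseOpen f' d S₀'))
    (hv : ∀ g' : ULift.{u} (Equiv.Perm (Fin d)),
      ((SymProd.permActU f' d g').hom.appLE _ _
        (preimage_inf_stable f f' hX hS w d (preimage_stable f d hq) S₀' g')).hom v = v) :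
    v ∈ (n.appLE (piece g hS Y₀ S₀') _ eν).hom.range := by
  letI := ((WidePullback.base (fun _ : Fin d => f')).appLE S₀'
    (powBC f f' hX hS w d ⁻¹ᵁ (q ⁻¹ᵁ Y₀) ⊓ baseOpen f' d S₀') inf_le_right).hom.toAlgebra
  letI := SGA1Q.secAction (SymProd.permActU f d) (q ⁻¹ᵁ Y₀) (preimage_stable f d hq)
  letI := SGA1Q.secAction (SymProd.permActU f' d)
    (powBC f f' hX hS w d ⁻¹ᵁ (q ⁻¹ᵁ Y₀) ⊓ baseOpen f' d S₀')
    (preimage_inf_stable f f' hX hS w d (preimage_stable f d hq) S₀')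
  let V := q ⁻¹ᵁ Y₀
  let ν := (n.appLE (piece g hS Y₀ S₀') _ eν).hom
  have hmem := hsp v fun g' => hv g'⁻¹
  have hνR : ∀ s, algebraMap Γ(S', S₀') _ s =
      ν (((pullback.snd g hS).appLE S₀' (piece g hS Y₀ S₀') inf_le_right).hom s) := by
    intro s
    show ((WidePullback.base (fun _ : Fin d => f')).appLE S₀' _ inf_le_right).hom s = _
    refine Eq.trans ?_ (congr(($(Scheme.Hom.appLE_comp_appLE n (pullback.snd g hS) S₀'
      (piece g hS Y₀ S₀') _ inf_le_right eν)).hom s)).symm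
    exact congr(($(SGA1Q.appLE_congr_hom (hn2.symm) _ _)).hom s)
  have hνY : ∀ t : Γ(Y, Y₀), ((powBC f f' hX hS w d).appLE V _ inf_le_left).hom ((q.app Y₀).hom t) =
      ν (((pullback.fst g hS).appLE Y₀ (piece g hS Y₀ S₀') inf_le_left).hom t) := by
    intro t
    refine Eq.trans ?_ (congr(($(Scheme.Hom.appLE_comp_appLE n (pullback.fst g hS) Y₀
      (piece g hS Y₀ S₀') _ inf_le_left eν)).hom t)).symm
    rw [Scheme.Hom.app_eq_appLE]
    refine (congr(($(Scheme.Hom.appLE_comp_appLE (powBC f f' hX hS w d) q Y₀ V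
      (powBC f f' hX hS w d ⁻¹ᵁ V ⊓ baseOpen f' d S₀') le_rfl inf_le_left)).hom t)).trans ?_
    exact congr(($(SGA1Q.appLE_congr_hom (hn1.symm) _ _)).hom t)
  suffices key : ∀ v ∈ invSpan Γ(S', S₀') ((powBC f f' hX hS w d).appLE V
        (powBC f f' hX hS w d ⁻¹ᵁ V ⊓ baseOpen f' d S₀') inf_le_left).hom
        (⊤ : Subgroup (ULift.{u} (Equiv.Perm (Fin d)))), v ∈ ν.range from key _ hmem
  intro v hv
  induction hv using Submodule.span_induction with
  | mem z hz =>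
    obtain ⟨a, ha, rfl⟩ := hz
    obtain ⟨t, rfl⟩ := (hq.isQuot.range_iff Y₀ a).2 fun g' => by
      have e := ha g'⁻¹ (Subgroup.mem_top _)
      change ((SymProd.permActU f d g'⁻¹⁻¹).hom.appLE _ _ _).hom a = a at e
      simp only [inv_inv] at e
      exact e
    exact ⟨_, (hνY t).symm⟩
  | zero => exact zero_mem _
  | add a b _ _ ha hb => exact add_mem ha hb
  | smul s a _ ha =>
    rw [Algebra.smul_def, hνR]
    exact mul_mem ⟨_, rfl⟩ ha

include hq hr hm1 hm2 in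
omit [IsClosedImmersion (pullback.lift hX f' w)] in
/-- Spanned invariants give surjectivity on sections. -/
theorem app_surjective_of_spans
    (hsp : Spans f f' hX hS w d (S₀' := S₀') (preimage_stable f d hq (Y₀ := Y₀))) :
    Function.Surjective (m.app (piece g hS Y₀ S₀')).hom := by
  intro b
  let U := m ⁻¹ᵁ piece g hS Y₀ S₀'
  have hpre := preimage_piece f f' hX hS w d m hm1 hm2 (Y₀ := Y₀) (S₀' := S₀')
  let V := q ⁻¹ᵁ Y₀
  let ε := r.appLE U (powBC f f' hX hS w d ⁻¹ᵁ V ⊓ baseOpen f' d S₀') hpre.ge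
  have hεinj : Function.Injective ε.hom := by
    have : ε = r.app U ≫ (SymProd.fibPow f' d).presheaf.map (eqToHom hpre.symm).op := rfl
    rw [this, CommRingCat.hom_comp, RingHom.coe_comp]
    exact (ConcreteCategory.bijective_of_isIso
      ((SymProd.fibPow f' d).presheaf.map (eqToHom hpre.symm).op)).1.comp (hr.injective U)
  letI := SGA1Q.secAction (SymProd.permActU f' d)
    (powBC f f' hX hS w d ⁻¹ᵁ V ⊓ baseOpen f' d S₀')
    (preimage_inf_stable f f' hX hS w d (preimage_stable f d hq) S₀')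
  have hinv : ∀ g' : ULift.{u} (Equiv.Perm (Fin d)), g' • ε.hom b = ε.hom b := fun g' =>
    smul_appLE_invariant r hr.inv _ hpre.ge g' b
  obtain ⟨z, hz⟩ := mem_range_of_spans f f' hX hS w d hq hsp (r ≫ m)
    (by rw [Category.assoc, hm1]) (by rw [Category.assoc, hm2]) hpre.ge (ε.hom b) (fun g' => by
      have e := hinv g'⁻¹
      change ((SymProd.permActU f' d g'⁻¹⁻¹).hom.appLE _ _ _).hom (ε.hom b) = ε.hom b at e
      simp only [inv_inv] at e
      exact e)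
  refine ⟨z, hεinj ?_⟩
  rw [← hz, Scheme.Hom.app_eq_appLE]
  exact congr(($(Scheme.Hom.appLE_comp_appLE r m (piece g hS Y₀ S₀') (m ⁻¹ᵁ piece g hS Y₀ S₀')
    (powBC f f' hX hS w d ⁻¹ᵁ (q ⁻¹ᵁ Y₀) ⊓ baseOpen f' d S₀') le_rfl hpre.ge)).hom z)

include hq hr hm1 hm2 in
/-- The comparison is a closed immersion when the invariants are spanned everywhere. -/
theorem isClosedImmersion_of_spans
    (hsp : ∀ (S₀ : S.Opens) (S₀' : S'.Opens) (Y₀ : Y.Opens), IsAffineOpen S₀ → IsAffineOpen S₀' →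
      IsAffineOpen Y₀ → Y₀ ≤ g ⁻¹ᵁ S₀ → S₀' ≤ hS ⁻¹ᵁ S₀ →
      Spans f f' hX hS w d (S₀' := S₀') (preimage_stable f d hq (Y₀ := Y₀))) :
    IsClosedImmersion m := by
  haveI := isAffineHom_comparison f f' hX hS w d hq hr m hm1 hm2
  have H : ∀ z : (pullback g hS : Scheme.{u}), ∃ U : (pullback g hS).Opens, z ∈ U ∧
      IsClosedImmersion (m ∣_ U) := by
    intro z
    obtain ⟨S₀, hS₀, hzS, -⟩ := exists_isAffineOpen_mem_and_subset
      (x := g (pullback.fst g hS z)) (U := ⊤) trivial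
    obtain ⟨Y₀, hY₀, hzY, hle0⟩ := exists_isAffineOpen_mem_and_subset
      (x := pullback.fst g hS z) (U := g ⁻¹ᵁ S₀) hzS
    obtain ⟨S₀', hS₀', hzS', hle⟩ := exists_isAffineOpen_mem_and_subset
      (x := pullback.snd g hS z) (U := hS ⁻¹ᵁ S₀) (by
        show hS.base ((pullback.snd g hS).base z) ∈ S₀
        rw [show hS.base ((pullback.snd g hS).base z) = g.base ((pullback.fst g hS).base z) from
          (congr(($(pullback.condition (f := g) (g := hS))).base z)).symm]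
        exact hzS)
    refine ⟨piece g hS Y₀ S₀', ⟨hzY, hzS'⟩, ?_⟩
    have hU := (isAffineOpen_and_adjoin_eq_top (𝟙 (pullback g hS)) _ _ (Category.id_comp _)
      (Category.id_comp _) hS₀ hS₀' hY₀ hle0 hle).1
    haveI : IsAffine (piece g hS Y₀ S₀').toScheme := hU
    haveI : IsAffine (m ⁻¹ᵁ piece g hS Y₀ S₀').toScheme :=
      isAffineOpen_preimage_piece f f' hX hS w d hq hr m hm1 hm2 hY₀ hS₀ hS₀' hle0 hle
    refine IsClosedImmersion.of_surjective_of_isAffine _ ?_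
    have hsurj := app_surjective_of_spans f f' hX hS w d hq hr m hm1 hm2
      (hsp S₀ S₀' Y₀ hS₀ hS₀' hY₀ hle0 hle)
    have e : (m ∣_ piece g hS Y₀ S₀').appTop =
        (piece g hS Y₀ S₀').topIso.hom ≫ m.app (piece g hS Y₀ S₀') ≫
          (m ⁻¹ᵁ piece g hS Y₀ S₀').topIso.inv := by
      simp [morphismRestrict_appTop, Scheme.Opens.topIso, Scheme.Hom.app_eq_appLE]
    rw [e]
    intro y
    obtain ⟨y₁, rfl⟩ := (ConcreteCategory.bijective_of_isIso
      (m ⁻¹ᵁ piece g hS Y₀ S₀').topIso.inv).2 y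
    obtain ⟨y₂, rfl⟩ := hsurj y₁
    obtain ⟨y₃, rfl⟩ := (ConcreteCategory.bijective_of_isIso (piece g hS Y₀ S₀').topIso.hom).2 y₂
    exact ⟨y₃, rfl⟩
  choose U hzU hU using H
  exact IsZariskiLocalAtTarget.of_iSup_eq_top (P := @IsClosedImmersion) U
    (eq_top_iff.2 fun z _ => Opens.mem_iSup.2 ⟨z, hzU z⟩) hU

end Quot

end H9SymQ
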