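import Groth.Agent.H9SymQ.Inj
import Groth.Agent.SGA1Q.Affine

/-!
# The base change of a symmetric product is a symmetric product (flat or `d!` invertible)
-/

set_option autoImplicit false
set_option backward.isDefEq.respectTransparency false
set_option backward.isDefEq.respectTransparency.types false

universe u

open CategoryTheory CategoryTheory.Limits AlgebraicGeometry TopologicalSpace
open scoped TensorProduct

namespace H9SymQ

variable {X S : Scheme.{u}} (f : X ⟶ S) (d : ℕ) {S' : Scheme.{u}} (hS : S' ⟶ S)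
  {Y : Scheme.{u}} {q : SymProd.fibPow f d ⟶ Y} {g : Y ⟶ S} (hq : SymProd.IsSymProd f d q g)
  {S₀ : S.Opens} {S₀' : S'.Opens} {Y₀ : Y.Opens}

lemma preimage_piece_quotBC :
    quotBC f d hS hq ⁻¹ᵁ piece g hS Y₀ S₀' =
      powBC f (pullback.snd f hS) (pullback.fst f hS) hS pullback.condition d ⁻¹ᵁ (q ⁻¹ᵁ Y₀) ⊓
        baseOpen (pullback.snd f hS) d S₀' := by
  show (quotBC f d hS hq ≫ pullback.fst g hS) ⁻¹ᵁ Y₀ ⊓
    (quotBC f d hS hq ≫ pullback.snd g hS) ⁻¹ᵁ S₀' = _
  rw [quotBC, pullback.lift_fst, pullback.lift_snd]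
  rfl

/-- With `d!` invertible the invariants split off. -/
theorem appLE_injective_of_isUnit (hY₀ : IsAffineOpen Y₀) (hS₀ : IsAffineOpen S₀)
    (hS₀' : IsAffineOpen S₀') (hle0 : Y₀ ≤ g ⁻¹ᵁ S₀) (hle : S₀' ≤ hS ⁻¹ᵁ S₀)
    (hn : ∀ n : ℕ, 0 < n → IsUnit ((n : ℕ) : Γ(S', ⊤))) :
    Function.Injective ((quotBC f d hS hq).appLE (piece g hS Y₀ S₀') _
      (preimage_piece_quotBC f d hS hq (Y₀ := Y₀) (S₀' := S₀')).ge).hom := by
  classical
  haveI := hq.isQuot.affine
  let G := ULift.{u} (Equiv.Perm (Fin d))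
  let f' := pullback.snd f hS
  let Φ := powBC f f' (pullback.fst f hS) hS pullback.condition d
  let n := quotBC f d hS hq
  let V := q ⁻¹ᵁ Y₀
  let P := piece g hS Y₀ S₀'
  let V' := Φ ⁻¹ᵁ V ⊓ baseOpen f' d S₀'
  have hpre : n ⁻¹ᵁ P = V' := preimage_piece_quotBC f d hS hq
  have hV' : V' = Φ ⁻¹ᵁ V ⊓ n ⁻¹ᵁ P := by
    rw [hpre]
    exact (inf_eq_right.2 (inf_le_left : V' ≤ Φ ⁻¹ᵁ V)).symm
  have hP : IsAffineOpen P := (isAffineOpen_and_adjoin_eq_top (𝟙 (pullback g hS)) _ _
    (Category.id_comp _) (Category.id_comp _) hS₀ hS₀' hY₀ hle0 hle).1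
  have hPle : P ≤ pullback.fst g hS ⁻¹ᵁ Y₀ := inf_le_left
  have H := isPullback_quotBC f d hS hq
  have hpo := (isIso_pushoutSection_iff H (US := Y₀) (UT := P) (UX := V) hPle le_rfl hV').1
    (isIso_pushoutSection_of_isAffineOpen H hPle le_rfl hV' hY₀ hP (hY₀.preimage q))
  letI algA := (q.appLE Y₀ V le_rfl).hom.toAlgebra
  letI algB' := ((pullback.fst g hS).appLE Y₀ P hPle).hom.toAlgebra
  letI algA' := (Φ.appLE V V' (hV'.le.trans inf_le_left)).hom.toAlgebra
  letI algB'A' := (n.appLE P V' (hV'.le.trans inf_le_right)).hom.toAlgebra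
  letI algBA' := ((Φ.appLE V V' (hV'.le.trans inf_le_left)).hom.comp
    (q.appLE Y₀ V le_rfl).hom).toAlgebra
  haveI : IsScalarTower Γ(Y, Y₀) Γ(SymProd.fibPow f d, V) Γ(SymProd.fibPow f' d, V') :=
    IsScalarTower.of_algebraMap_eq' rfl
  haveI : IsScalarTower Γ(Y, Y₀) Γ(pullback g hS, P) Γ(SymProd.fibPow f' d, V') :=
    IsScalarTower.of_algebraMap_eq' (congrArg CommRingCat.Hom.hom hpo.w)
  haveI : Algebra.IsPushout Γ(Y, Y₀) Γ(pullback g hS, P) Γ(SymProd.fibPow f d, V)
      Γ(SymProd.fibPow f' d, V') :=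
    CommRingCat.isPushout_iff_isPushout.1 hpo.flip
  -- the trace
  haveI : Fintype G := Fintype.ofFinite G
  letI := SGA1Q.secAction (SymProd.permActU f d) V (preimage_stable f d hq)
  have hinj : Function.Injective (algebraMap Γ(Y, Y₀) Γ(SymProd.fibPow f d, V)) := by
    have := hq.isQuot.injective Y₀
    rw [Scheme.Hom.app_eq_appLE] at this
    exact this
  have hrange : ∀ a : Γ(SymProd.fibPow f d, V), ∃ b, algebraMap Γ(Y, Y₀) _ b = ∑ g' : G, g' • a := by
    intro a
    obtain ⟨b, hb⟩ := (hq.isQuot.range_iff Y₀ (∑ g' : G, g' • a)).2 fun g' => by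
      have e : g'⁻¹ • ∑ x : G, x • a = ∑ x : G, x • a := by
        rw [Finset.smul_sum]
        exact Fintype.sum_equiv (Equiv.mulLeft g'⁻¹) _ _ fun x => (mul_smul _ _ _).symm
      change ((SymProd.permActU f d g'⁻¹⁻¹).hom.appLE _ _ _).hom (∑ x : G, x • a) = _ at e
      simp only [inv_inv] at e
      exact e
    rw [Scheme.Hom.app_eq_appLE] at hb
    exact ⟨b, hb⟩
  choose tr htr using hrange
  let τ : Γ(SymProd.fibPow f d, V) →ₗ[Γ(Y, Y₀)] Γ(Y, Y₀) :=
    { toFun := tr
      map_add' := fun a b => hinj (by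
        rw [map_add, htr, htr, htr, ← Finset.sum_add_distrib]
        simp only [smul_add])
      map_smul' := fun c a => hinj (by
        rw [RingHom.id_apply, smul_eq_mul, map_mul, htr, htr, Finset.mul_sum]
        refine Finset.sum_congr rfl fun g' _ => ?_
        rw [Algebra.smul_def, smul_mul']
        congr 1
        exact smul_appLE_invariant q hq.isQuot.inv (preimage_stable f d hq) le_rfl g' c) }
  have hτ1 : τ 1 = ((Fintype.card G : ℕ) : Γ(Y, Y₀)) := hinj (by
    rw [show τ 1 = tr 1 from rfl, htr, map_natCast]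
    simp)
  refine injective_of_retraction τ ?_
  rw [hτ1, map_natCast]
  have := (hn (Fintype.card G) Fintype.card_pos).map
    ((pullback.snd g hS).appLE ⊤ P (fun _ _ => trivial)).hom
  rwa [map_natCast] at this

/-- For flat `f` the invariants are universally injective. -/
theorem appLE_injective_of_flat [Flat f] (hY₀ : IsAffineOpen Y₀) (hS₀ : IsAffineOpen S₀)
    (hS₀' : IsAffineOpen S₀') (hle0 : Y₀ ≤ g ⁻¹ᵁ S₀) (hle : S₀' ≤ hS ⁻¹ᵁ S₀) :
    Function.Injective ((quotBC f d hS hq).appLE (piece g hS Y₀ S₀') _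
      (preimage_piece_quotBC f d hS hq (Y₀ := Y₀) (S₀' := S₀')).ge).hom := by
  classical
  haveI := hq.isQuot.affine
  let f' := pullback.snd f hS
  let Φ := powBC f f' (pullback.fst f hS) hS pullback.condition d
  let n := quotBC f d hS hq
  let V := q ⁻¹ᵁ Y₀
  have hVS : V ≤ baseOpen f d S₀ := preimage_le_baseOpen f d hq hle0
  have hV : IsAffineOpen V := hY₀.preimage q
  let P := piece g hS Y₀ S₀'
  let V' := Φ ⁻¹ᵁ V ⊓ baseOpen f' d S₀'
  have H₁ := IsPullback.of_hasPullback g hS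
  have hpo₁ := (isIso_pushoutSection_iff H₁ (US := S₀) (UT := S₀') (UX := Y₀) (UY := P) hle hle0 rfl).1
    (isIso_pushoutSection_of_isAffineOpen H₁ hle hle0 rfl hS₀ hS₀' hY₀)
  have H₂ := isPullback_powBC f d hS
  have hpo₂ := (isIso_pushoutSection_iff H₂ (US := S₀) (UT := S₀') (UX := V) (UY := V') hle hVS rfl).1
    (isIso_pushoutSection_of_isAffineOpen H₂ hle hVS rfl hS₀ hS₀' hV)
  let R := Γ(S, S₀)
  letI algR' : Algebra R Γ(S', S₀') := (hS.appLE S₀ S₀' hle).hom.toAlgebra
  letI algB : Algebra R Γ(Y, Y₀) := (g.appLE S₀ Y₀ hle0).hom.toAlgebra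
  letI algA := ((WidePullback.base (fun _ : Fin d => f)).appLE S₀ V hVS).hom.toAlgebra
  letI algR'P := ((pullback.snd g hS).appLE S₀' P inf_le_right).hom.toAlgebra
  letI algBP := ((pullback.fst g hS).appLE Y₀ P inf_le_left).hom.toAlgebra
  letI algRP := (((pullback.snd g hS).appLE S₀' P inf_le_right).hom.comp
    (hS.appLE S₀ S₀' hle).hom).toAlgebra
  letI algR'A := ((WidePullback.base (fun _ : Fin d => f')).appLE S₀' V' inf_le_right).hom.toAlgebra
  letI algAA := (Φ.appLE V V' inf_le_left).hom.toAlgebra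
  letI algRA' := (((WidePullback.base (fun _ : Fin d => f')).appLE S₀' V' inf_le_right).hom.comp
    (hS.appLE S₀ S₀' hle).hom).toAlgebra
  haveI : IsScalarTower R Γ(S', S₀') Γ(pullback g hS, P) := IsScalarTower.of_algebraMap_eq' rfl
  haveI : IsScalarTower R Γ(Y, Y₀) Γ(pullback g hS, P) :=
    IsScalarTower.of_algebraMap_eq' (congrArg CommRingCat.Hom.hom hpo₁.w).symm
  haveI : IsScalarTower R Γ(S', S₀') Γ(SymProd.fibPow f' d, V') := IsScalarTower.of_algebraMap_eq' rfl
  haveI : IsScalarTower R Γ(SymProd.fibPow f d, V) Γ(SymProd.fibPow f' d, V') :=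
    IsScalarTower.of_algebraMap_eq' (congrArg CommRingCat.Hom.hom hpo₂.w).symm
  haveI : Algebra.IsPushout R Γ(S', S₀') Γ(Y, Y₀) Γ(pullback g hS, P) :=
    CommRingCat.isPushout_iff_isPushout.1 hpo₁.flip
  haveI : Algebra.IsPushout R Γ(S', S₀') Γ(SymProd.fibPow f d, V) Γ(SymProd.fibPow f' d, V') :=
    CommRingCat.isPushout_iff_isPushout.1 hpo₂.flip
  let e₁ := Algebra.IsPushout.equiv R Γ(S', S₀') Γ(Y, Y₀) Γ(pullback g hS, P)
  let e₂ := Algebra.IsPushout.equiv R Γ(S', S₀') Γ(SymProd.fibPow f d, V) Γ(SymProd.fibPow f' d, V')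
  let ι : Γ(Y, Y₀) →ₐ[R] Γ(SymProd.fibPow f d, V) :=
    { (q.appLE Y₀ V le_rfl).hom with
      commutes' := fun r => by
        show (q.appLE Y₀ V le_rfl).hom ((g.appLE S₀ Y₀ hle0).hom r) = _
        rw [← RingHom.comp_apply, ← CommRingCat.hom_comp, Scheme.Hom.appLE_comp_appLE]
        exact congr(($(SGA1Q.appLE_congr_hom hq.over _ _)).hom r) }
  have hιinj : Function.Injective ι := by
    have := hq.isQuot.injective Y₀
    rw [Scheme.Hom.app_eq_appLE] at this
    exact this
  have hfix : ∀ g' b, ((SymProd.permActU f d g').hom.appLE V V (preimage_stable f d hq g')).hom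
      (ι b) = ι b := by
    intro g' b
    have := SGA1Q.appLE_app_of_inv hq.isQuot.inv Y₀ g' b
    rw [Scheme.Hom.app_eq_appLE] at this
    exact this
  have hrange : ∀ a, (∀ g', ((SymProd.permActU f d g').hom.appLE V V
      (preimage_stable f d hq g')).hom a = a) → a ∈ Set.range ι := by
    intro a ha
    obtain ⟨b, hb⟩ := (hq.isQuot.range_iff Y₀ a).2 ha
    rw [Scheme.Hom.app_eq_appLE] at hb
    exact ⟨b, hb⟩
  have hpure := lTensor_invariants_injective f d hS₀ hV (preimage_stable f d hq) hVS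
    Γ(Y, Y₀) ι hιinj hfix hrange Γ(S', S₀')
  have heν : ∀ z, (n.appLE P V' (preimage_piece_quotBC f d hS hq).ge).hom (e₁ z) =
      e₂ (ι.toLinearMap.lTensor Γ(S', S₀') z) := by
    intro z
    induction z using TensorProduct.induction_on with
    | zero => simp
    | tmul r b =>
      rw [LinearMap.lTensor_tmul]
      simp only [e₁, e₂, Algebra.IsPushout.equiv_tmul, map_mul]
      congr 1
      · show (n.appLE P V' _).hom (((pullback.snd g hS).appLE S₀' P inf_le_right).hom r) =
          ((WidePullback.base (fun _ : Fin d => f')).appLE S₀' V' inf_le_right).hom r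
        rw [← RingHom.comp_apply, ← CommRingCat.hom_comp, Scheme.Hom.appLE_comp_appLE]
        exact congr(($(SGA1Q.appLE_congr_hom (pullback.lift_snd _ _ _) _ _)).hom r)
      · show (n.appLE P V' _).hom (((pullback.fst g hS).appLE Y₀ P inf_le_left).hom b) =
          (Φ.appLE V V' inf_le_left).hom ((q.appLE Y₀ V le_rfl).hom b)
        rw [← RingHom.comp_apply, ← RingHom.comp_apply, ← CommRingCat.hom_comp,
          ← CommRingCat.hom_comp, Scheme.Hom.appLE_comp_appLE, Scheme.Hom.appLE_comp_appLE]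
        exact congr(($(SGA1Q.appLE_congr_hom (pullback.lift_fst _ _ _) _ _)).hom b)
    | add a b ha hb => simp only [map_add, ha, hb]
  intro x y hxy
  obtain ⟨x, rfl⟩ := e₁.surjective x
  obtain ⟨y, rfl⟩ := e₁.surjective y
  rw [heν, heν] at hxy
  exact congrArg e₁ (hpure (e₂.injective hxy))

/-- **Base change of symmetric products.** -/
theorem isQuot_quotBC (h : Flat f ∨ ∀ n : ℕ, 0 < n → IsUnit ((n : ℕ) : Γ(S', ⊤))) :
    SGA1.IsQuot (SymProd.permActU (pullback.snd f hS) d) (quotBC f d hS hq) := by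
  haveI := hq.isQuot.affine
  have haff : IsAffineHom (quotBC f d hS hq) :=
    MorphismProperty.of_isPullback (P := @IsAffineHom) (isPullback_quotBC f d hS hq) inferInstance
  have hinv : ∀ σ, (SymProd.permActU (pullback.snd f hS) d σ).hom ≫ quotBC f d hS hq =
      quotBC f d hS hq := by
    intro σ
    apply pullback.hom_ext
    · rw [Category.assoc, quotBC, pullback.lift_fst, SymProd.permActU_hom, permHom_powBC_assoc]
      exact congrArg (_ ≫ ·) (hq.isQuot.inv σ)
    · rw [Category.assoc, quotBC, pullback.lift_snd, SymProd.permActU_hom, SymProd.permHom_base]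
  refine SGA1Q.isQuot_of_affine_cover haff hinv fun z => ?_
  obtain ⟨S₀, hS₀, hzS, -⟩ := exists_isAffineOpen_mem_and_subset
    (x := g (pullback.fst g hS z)) (U := ⊤) trivial
  obtain ⟨Y₀, hY₀, hzY, hle0⟩ := exists_isAffineOpen_mem_and_subset
    (x := pullback.fst g hS z) (U := g ⁻¹ᵁ S₀) hzS
  obtain ⟨S₀', hS₀', hzS', hle⟩ := exists_isAffineOpen_mem_and_subset
    (x := pullback.snd g hS z) (U := hS ⁻¹ᵁ S₀) (by
      show hS.base ((pullback.snd g hS).base z) ∈ S₀
      rw [show hS.base ((pullback.snd g hS).base z) = g.base ((pullback.fst g hS).base z) from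
        (congr(($(pullback.condition (f := g) (g := hS))).base z)).symm]
      exact hzS)
  have hsp : Spans f (pullback.snd f hS) (pullback.fst f hS) hS pullback.condition d
      (S₀' := S₀') (preimage_stable f d hq (Y₀ := Y₀)) := by
    rcases h with hflat | hn
    · exact mem_invSpan_powBC f (pullback.snd f hS) (pullback.fst f hS) hS pullback.condition d
        hS₀ hS₀' hle (hY₀.preimage q) (preimage_stable f d hq) (preimage_le_baseOpen f d hq hle0)
    · exact spans_of_isUnit f (pullback.snd f hS) (pullback.fst f hS) hS pullback.condition d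
        hS₀ hS₀' hle (hY₀.preimage q) (preimage_stable f d hq) (preimage_le_baseOpen f d hq hle0) hn
  have hinj := h.elim
    (fun _ => appLE_injective_of_flat f d hS hq hY₀ hS₀ hS₀' hle0 hle)
    (fun hn => appLE_injective_of_isUnit f d hS hq hY₀ hS₀ hS₀' hle0 hle hn)
  let V' := powBC f (pullback.snd f hS) (pullback.fst f hS) hS pullback.condition d ⁻¹ᵁ (q ⁻¹ᵁ Y₀) ⊓
    baseOpen (pullback.snd f hS) d S₀'
  have hpre : V' = quotBC f d hS hq ⁻¹ᵁ piece g hS Y₀ S₀' :=
    (preimage_piece_quotBC f d hS hq).symm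
  refine ⟨piece g hS Y₀ S₀', (isAffineOpen_and_adjoin_eq_top (𝟙 (pullback g hS)) _ _
    (Category.id_comp _) (Category.id_comp _) hS₀ hS₀' hY₀ hle0 hle).1, ⟨hzY, hzS'⟩, ?_, ?_⟩
  · intro a b hab
    refine hinj ?_
    rw [Scheme.Hom.appLE, CommRingCat.hom_comp, RingHom.comp_apply, RingHom.comp_apply, hab]
  · intro v hv
    let ε := (SymProd.fibPow (pullback.snd f hS) d).presheaf.map (eqToHom hpre).op
    have hεbij := ConcreteCategory.bijective_of_isIso ε
    obtain ⟨b, hb⟩ := mem_range_of_spans f (pullback.snd f hS) (pullback.fst f hS) hS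
      pullback.condition d hq hsp (quotBC f d hS hq) (pullback.lift_fst _ _ _)
      (pullback.lift_snd _ _ _) hpre.le (ε.hom v) (fun σ => by
        refine Eq.trans ?_ (congrArg ε.hom (hv σ))
        rw [← RingHom.comp_apply, ← RingHom.comp_apply, ← CommRingCat.hom_comp,
          ← CommRingCat.hom_comp]
        refine congrArg (fun m => (CommRingCat.Hom.hom m) v) ?_
        simp only [ε, Scheme.Hom.appLE_map]
        exact Scheme.Hom.map_appLE _ _ _)
    refine ⟨b, hεbij.1 ?_⟩
    rw [← hb]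
    rfl

end H9SymQ
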