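import Mathlib.RingTheory.Flat.EquationalCriterion
import Mathlib.LinearAlgebra.PiTensorProduct.Finsupp
import Mathlib.LinearAlgebra.PiTensorProduct.Basic
import Mathlib.LinearAlgebra.Finsupp.LinearCombination
import Mathlib.Data.Fintype.Perm

/-!
# Symmetric tensors of a flat module are spanned by orbit sums

If `M` is flat over `R` and `u : ι → M` spans `M`, every symmetric tensor in `⨂^d M` is a linear
combination of the orbit sums `∑_{s ∈ orbit t} ⊗ u (s i)`, `t : Fin d → ι`.
-/

set_option backward.isDefEq.respectTransparency false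
set_option backward.isDefEq.respectTransparency.types false
set_option autoImplicit false

universe u

open scoped TensorProduct

namespace H9SymQ

open scoped Classical in
/-- The orbit of a tuple under the permutations of the indices. -/
noncomputable def tupleOrbit {ι : Type*} {d : ℕ} (t : Fin d → ι) : Finset (Fin d → ι) :=
  Finset.univ.image fun σ : Equiv.Perm (Fin d) => t ∘ σ

lemma mem_tupleOrbit {ι : Type*} {d : ℕ} {t s : Fin d → ι} :
    s ∈ tupleOrbit t ↔ ∃ σ : Equiv.Perm (Fin d), t ∘ σ = s := by
  classical simp [tupleOrbit]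

lemma comp_mem_tupleOrbit {ι : Type*} {d : ℕ} {t s : Fin d → ι} (τ : Equiv.Perm (Fin d))
    (hs : s ∈ tupleOrbit t) : s ∘ τ ∈ tupleOrbit t := by
  obtain ⟨σ, rfl⟩ := mem_tupleOrbit.1 hs
  exact mem_tupleOrbit.2 ⟨σ * τ, rfl⟩

lemma sum_tupleOrbit_comp {ι : Type*} {d : ℕ} {A : Type*} [AddCommMonoid A] (t : Fin d → ι)
    (τ : Equiv.Perm (Fin d)) (F : (Fin d → ι) → A) :
    ∑ s ∈ tupleOrbit t, F (s ∘ τ) = ∑ s ∈ tupleOrbit t, F s := by
  refine Finset.sum_nbij' (fun s => s ∘ τ) (fun s => s ∘ τ.symm)
    (fun s hs => comp_mem_tupleOrbit τ hs) (fun s hs => comp_mem_tupleOrbit τ.symm hs) ?_ ?_ ?_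
  · intro s _; funext i; simp
  · intro s _; funext i; simp
  · intro s _; rfl

section Coeff

variable {R : Type*} [CommRing R] {ι : Type*} {d : ℕ}

/-- A coefficient function constant on orbits is a combination of orbit indicators. -/
theorem mem_span_orbit_of_invariant (c : (Fin d → ι) →₀ R)
    (hc : ∀ (σ : Equiv.Perm (Fin d)) s, c (s ∘ σ) = c s) :
    c ∈ Submodule.span R (Set.range fun t : Fin d → ι =>
      ∑ s ∈ tupleOrbit t, Finsupp.single s (1 : R)) := by
  classical
  induction h : c.support.card using Nat.strong_induction_on generalizing c with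
  | _ n ih =>
  by_cases hc0 : c = 0
  · rw [hc0]; exact zero_mem _
  obtain ⟨t, ht⟩ : c.support.Nonempty := Finsupp.support_nonempty_iff.2 hc0
  set o : (Fin d → ι) →₀ R := ∑ s ∈ tupleOrbit t, Finsupp.single s (1 : R) with ho
  have hoa : ∀ s, o s = if s ∈ tupleOrbit t then (1 : R) else 0 := by
    intro s
    simp [ho, Finsupp.finset_sum_apply, Finsupp.single_apply]
  have hct : ∀ s ∈ tupleOrbit t, c s = c t := by
    intro s hs
    obtain ⟨σ, rfl⟩ := mem_tupleOrbit.1 hs
    exact hc σ t
  have hinv : ∀ (σ : Equiv.Perm (Fin d)) s, (c - c t • o) (s ∘ σ) = (c - c t • o) s := by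
    intro σ s
    have hiff : s ∘ σ ∈ tupleOrbit t ↔ s ∈ tupleOrbit t := by
      refine ⟨fun h => ?_, comp_mem_tupleOrbit σ⟩
      have := comp_mem_tupleOrbit σ.symm h
      rwa [Function.comp_assoc, Equiv.self_comp_symm, Function.comp_id] at this
    simp only [Finsupp.sub_apply, Finsupp.smul_apply, hoa, hiff, hc σ s]
  have hsub : (c - c t • o).support ⊆ c.support.erase t := by
    intro s hs
    rw [Finsupp.mem_support_iff] at hs
    rw [Finset.mem_erase, Finsupp.mem_support_iff]
    simp only [Finsupp.sub_apply, Finsupp.smul_apply, hoa] at hs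
    by_cases hso : s ∈ tupleOrbit t
    · exact absurd (by rw [if_pos hso, hct s hso, smul_eq_mul, mul_one, sub_self]) hs
    · rw [if_neg hso, smul_zero, sub_zero] at hs
      exact ⟨fun e => hso (e ▸ mem_tupleOrbit.2 ⟨1, rfl⟩), hs⟩
  have hlt : (c - c t • o).support.card < n := by
    rw [← h]
    exact (Finset.card_le_card hsub).trans_lt (Finset.card_erase_lt_of_mem ht)
  have := add_mem (ih _ hlt _ hinv rfl)
    (Submodule.smul_mem _ (c t) (Submodule.subset_span ⟨t, rfl⟩))
  simpa [← ho] using this

end Coeff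

section Flat

variable {R : Type u} [CommRing R] {M : Type u} [AddCommGroup M] [Module R M] {ι : Type u}

/-- An endomorphism of the free module over `M` killing a given relation. -/
theorem exists_endo_apply_eq_zero [Module.Flat R M] (π : (ι →₀ R) →ₗ[R] M)
    (hπ : Function.Surjective π) (k : ι →₀ R) (hk : π k = 0) :
    ∃ e : (ι →₀ R) →ₗ[R] (ι →₀ R), π ∘ₗ e = π ∧ e k = 0 := by
  classical
  let s := {x // x ∈ k.support}
  let j : (s →₀ R) →ₗ[R] (ι →₀ R) := Finsupp.lmapDomain R R Subtype.val
  let f : s →₀ R := k.comapDomain Subtype.val Subtype.val_injective.injOn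
  have hjf : j f = k := by
    refine Finsupp.mapDomain_comapDomain _ Subtype.val_injective _ ?_
    intro x hx
    exact ⟨⟨x, hx⟩, rfl⟩
  obtain ⟨n, a, y, hxy, haf⟩ := Module.Flat.exists_factorization_of_apply_eq_zero_of_free
    (f := f) (x := π ∘ₗ j) (by rw [LinearMap.comp_apply, hjf, hk])
  choose g hg using fun i : Fin n => hπ (y (Finsupp.single i 1))
  let y' : (Fin n →₀ R) →ₗ[R] (ι →₀ R) := Finsupp.linearCombination R g
  have hy' : π ∘ₗ y' = y := by
    refine Finsupp.lhom_ext fun i r => ?_
    rw [LinearMap.comp_apply, Finsupp.linearCombination_single, map_smul, hg, ← map_smul,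
      Finsupp.smul_single_one]
  let e : (ι →₀ R) →ₗ[R] (ι →₀ R) := Finsupp.linearCombination R fun i : ι =>
    if h : i ∈ k.support then y' (a (Finsupp.single (⟨i, h⟩ : s) 1)) else Finsupp.single i 1
  have hej : ∀ v : s →₀ R, e (j v) = y' (a v) := by
    intro v
    refine LinearMap.congr_fun (f := e ∘ₗ j) (g := y' ∘ₗ a) (Finsupp.lhom_ext fun i r => ?_) v
    have : j (Finsupp.single i r) = Finsupp.single i.1 r := Finsupp.mapDomain_single
    rw [LinearMap.comp_apply, this, Finsupp.linearCombination_single, dif_pos i.2,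
      LinearMap.comp_apply, ← map_smul, ← map_smul, Finsupp.smul_single_one]
  refine ⟨e, Finsupp.lhom_ext fun i r => ?_, ?_⟩
  · rw [LinearMap.comp_apply, Finsupp.linearCombination_single, map_smul]
    by_cases h : i ∈ k.support
    · rw [dif_pos h, ← LinearMap.comp_apply π y', hy',
        ← LinearMap.comp_apply y a, ← hxy, LinearMap.comp_apply,
        show j (Finsupp.single (⟨i, h⟩ : s) 1) = Finsupp.single i 1 from Finsupp.mapDomain_single,
        ← map_smul, Finsupp.smul_single_one]
    · rw [dif_neg h, ← map_smul, Finsupp.smul_single_one]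
  · rw [← hjf, hej, haf, map_zero]

/-- An endomorphism of the free module over `M` killing finitely many relations. -/
theorem exists_endo_forall_apply_eq_zero [Module.Flat R M] (π : (ι →₀ R) →ₗ[R] M)
    (hπ : Function.Surjective π) (K : List (ι →₀ R)) (hK : ∀ k ∈ K, π k = 0) :
    ∃ e : (ι →₀ R) →ₗ[R] (ι →₀ R), π ∘ₗ e = π ∧ ∀ k ∈ K, e k = 0 := by
  induction K with
  | nil => exact ⟨LinearMap.id, rfl, fun k hk => by simp at hk⟩
  | cons k K ih =>
    obtain ⟨e, he, heK⟩ := ih fun l hl => hK l (List.mem_cons_of_mem _ hl)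
    obtain ⟨e', he', he'k⟩ := exists_endo_apply_eq_zero π hπ (e k) (by
      rw [← LinearMap.comp_apply, he, hK k List.mem_cons_self])
    refine ⟨e' ∘ₗ e, by rw [← LinearMap.comp_assoc, he', he], fun l hl => ?_⟩
    rcases List.mem_cons.1 hl with rfl | hl
    · exact he'k
    · rw [LinearMap.comp_apply, heK l hl, map_zero]

variable {d : ℕ}

/-- The tensors with a slot in a given set. -/
noncomputable def slotSpan (K : Set (ι →₀ R)) : Submodule R (⨂[R] _ : Fin d, (ι →₀ R)) :=
  Submodule.span R (PiTensorProduct.tprod R '' {f | ∃ i, f i ∈ K})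

/-- A linear map killing the tensors with a slot in `ker π` kills the kernel of `⨂ π`. -/
theorem apply_eq_zero_of_map_eq_zero {P : Type u} [AddCommGroup P] [Module R P]
    (π : (ι →₀ R) →ₗ[R] M) (hπ : Function.Surjective π)
    (Q : (⨂[R] _ : Fin d, (ι →₀ R)) →ₗ[R] P)
    (hQ : ∀ f : Fin d → ι →₀ R, (∃ i, π (f i) = 0) → Q (PiTensorProduct.tprod R f) = 0)
    (x : ⨂[R] _ : Fin d, (ι →₀ R)) (hx : PiTensorProduct.map (fun _ : Fin d => π) x = 0) :
    Q x = 0 := by
  classical
  let σ := Function.surjInv hπ
  have hσ : ∀ m, π (σ m) = m := Function.surjInv_eq hπ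
  let q : MultilinearMap R (fun _ : Fin d => ι →₀ R) P :=
    Q.compMultilinearMap (PiTensorProduct.tprod R)
  have hupd : ∀ (f : Fin d → ι →₀ R) (i : Fin d) (z : ι →₀ R), π z = π (f i) →
      q (Function.update f i z) = q f := by
    intro f i z hz
    have h0 : q (Function.update f i (z - f i)) = 0 := hQ _ ⟨i, by simp [hz]⟩
    rwa [MultilinearMap.map_update_sub, Function.update_eq_self, sub_eq_zero] at h0
  have hcongr : ∀ f g : Fin d → ι →₀ R, (∀ i, π (f i) = π (g i)) → q f = q g := by
    intro f g h
    suffices ∀ S : Finset (Fin d), q (S.piecewise g f) = q f by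
      simpa using (this Finset.univ).symm
    intro S
    induction S using Finset.induction with
    | empty => simp
    | insert i S hi ih =>
      rw [Finset.piecewise_insert,
        hupd _ i _ (by simp [Finset.piecewise_eq_of_notMem _ _ _ hi, h i]), ih]
  let ψ : MultilinearMap R (fun _ : Fin d => M) P :=
    { toFun := fun m => q (σ ∘ m)
      map_update_add' := fun {dec} m i a b => by
        obtain rfl : dec = instDecidableEqFin d := Subsingleton.elim _ _
        simp only [Function.comp_update]
        rw [hcongr (Function.update (σ ∘ m) i (σ (a + b)))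
          (Function.update (σ ∘ m) i (σ a + σ b))]
        · exact q.map_update_add _ i _ _
        · intro j
          rcases eq_or_ne j i with rfl | hj
          · simp [hσ]
          · simp [Function.update_of_ne hj]
      map_update_smul' := fun {dec} m i c a => by
        obtain rfl : dec = instDecidableEqFin d := Subsingleton.elim _ _
        simp only [Function.comp_update]
        rw [hcongr (Function.update (σ ∘ m) i (σ (c • a)))
          (Function.update (σ ∘ m) i (c • σ a))]
        · exact q.map_update_smul _ i _ _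
        · intro j
          rcases eq_or_ne j i with rfl | hj
          · simp [hσ]
          · simp [Function.update_of_ne hj] }
  have hkey : (PiTensorProduct.lift ψ) ∘ₗ PiTensorProduct.map (fun _ : Fin d => π) = Q := by
    refine PiTensorProduct.ext (MultilinearMap.ext fun f => ?_)
    simp only [LinearMap.compMultilinearMap_apply, LinearMap.comp_apply,
      PiTensorProduct.map_tprod, PiTensorProduct.lift.tprod]
    exact hcongr _ _ fun i => by simp [hσ]
  rw [← hkey, LinearMap.comp_apply, hx, map_zero]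

theorem mem_span_of_forall_hom {T : Type u} [AddCommGroup T] [Module R T] (S : Set T) (x : T)
    (h : ∀ (P : Type u) [AddCommGroup P] [Module R P] (Q : T →ₗ[R] P),
      (∀ s ∈ S, Q s = 0) → Q x = 0) : x ∈ Submodule.span R S :=
  (Submodule.Quotient.mk_eq_zero _).1 <|
    h _ (Submodule.span R S).mkQ fun _ hs =>
      (Submodule.Quotient.mk_eq_zero _).2 (Submodule.subset_span hs)

/-- The kernel of `⨂ π` consists of tensors with a slot in the kernel of `π`. -/
theorem mem_slotSpan_of_map_eq_zero (π : (ι →₀ R) →ₗ[R] M) (hπ : Function.Surjective π)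
    (x : ⨂[R] _ : Fin d, (ι →₀ R)) (hx : PiTensorProduct.map (fun _ : Fin d => π) x = 0) :
    x ∈ slotSpan (d := d) (LinearMap.ker π : Set (ι →₀ R)) :=
  mem_span_of_forall_hom _ x fun _ _ _ Q hQ =>
    apply_eq_zero_of_map_eq_zero π hπ Q (fun f hf => hQ _ ⟨f, hf, rfl⟩) x hx

/-- **Symmetric tensors of a flat module are spanned by orbit sums.** -/
theorem mem_span_orbitSum_of_invariant [Module.Flat R M] (u : ι → M)
    (hu : Submodule.span R (Set.range u) = ⊤) (y : ⨂[R] _ : Fin d, M)
    (hy : ∀ σ : Equiv.Perm (Fin d), PiTensorProduct.reindex R (fun _ : Fin d => M) σ y = y) :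
    y ∈ Submodule.span R (Set.range fun t : Fin d → ι =>
      ∑ s ∈ tupleOrbit t, PiTensorProduct.tprod R fun i => u (s i)) := by
  classical
  let π : (ι →₀ R) →ₗ[R] M := Finsupp.linearCombination R u
  have hπ : Function.Surjective π := by
    rw [← LinearMap.range_eq_top, Finsupp.range_linearCombination, hu]
  let Tπ := PiTensorProduct.map (fun _ : Fin d => π)
  obtain ⟨z, rfl⟩ : ∃ z, Tπ z = y := by
    clear hy
    induction y using PiTensorProduct.induction_on with
    | smul_tprod r f =>
      choose g hg using fun i => hπ (f i)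
      exact ⟨r • PiTensorProduct.tprod R g, by simp [Tπ, hg]⟩
    | add a b ha hb =>
      obtain ⟨z, rfl⟩ := ha
      obtain ⟨w, rfl⟩ := hb
      exact ⟨z + w, map_add _ _ _⟩
  -- the obstructions to invariance of the lift
  let P := fun σ : Equiv.Perm (Fin d) => PiTensorProduct.reindex R (fun _ : Fin d => ι →₀ R) σ
  have hker : ∀ σ, P σ z - z ∈ slotSpan (d := d) (LinearMap.ker π : Set (ι →₀ R)) := by
    intro σ
    refine mem_slotSpan_of_map_eq_zero π hπ _ ?_
    rw [map_sub, sub_eq_zero]
    exact (PiTensorProduct.map_reindex (fun _ : Fin d => π) σ z).trans (hy σ)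
  -- finitely many relations suffice
  have hfin : ∀ x ∈ slotSpan (d := d) (LinearMap.ker π : Set (ι →₀ R)),
      ∃ K : List (ι →₀ R), (∀ k ∈ K, π k = 0) ∧ x ∈ slotSpan (d := d) {k | k ∈ K} := by
    intro x hx
    induction hx using Submodule.span_induction with
    | mem w hw =>
      obtain ⟨f, ⟨i, hi⟩, rfl⟩ := hw
      exact ⟨[f i], by simpa using hi, Submodule.subset_span ⟨f, ⟨i, by simp⟩, rfl⟩⟩
    | zero => exact ⟨[], by simp, zero_mem _⟩
    | add a b _ _ ha hb =>
      obtain ⟨K, hK, haK⟩ := ha
      obtain ⟨L, hL, hbL⟩ := hb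
      have hmono : ∀ {A B : Set (ι →₀ R)}, A ⊆ B →
          slotSpan (d := d) A ≤ slotSpan (d := d) B := fun h =>
        Submodule.span_mono (Set.image_mono fun f ⟨i, hi⟩ => ⟨i, h hi⟩)
      refine ⟨K ++ L, fun k hk => ?_, add_mem (hmono (fun k hk => ?_) haK)
        (hmono (fun k hk => ?_) hbL)⟩
      · rcases List.mem_append.1 hk with h | h
        · exact hK k h
        · exact hL k h
      · exact List.mem_append_left _ hk
      · exact List.mem_append_right _ hk
    | smul r a _ ha =>
      obtain ⟨K, hK, haK⟩ := ha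
      exact ⟨K, hK, Submodule.smul_mem _ r haK⟩
  choose K hK hmem using fun σ => hfin _ (hker σ)
  let Kall : List (ι →₀ R) := (Finset.univ : Finset (Equiv.Perm (Fin d))).toList.flatMap K
  obtain ⟨e, he, heK⟩ := exists_endo_forall_apply_eq_zero π hπ Kall fun k hk => by
    obtain ⟨σ, -, hσ⟩ := List.mem_flatMap.1 hk
    exact hK σ k hσ
  let Te := PiTensorProduct.map (fun _ : Fin d => e)
  have hTe : ∀ σ, Te (P σ z) = Te z := by
    intro σ
    have : slotSpan (d := d) {k | k ∈ K σ} ≤ LinearMap.ker Te := by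
      refine Submodule.span_le.2 ?_
      rintro _ ⟨f, ⟨i, hi⟩, rfl⟩
      show Te _ = 0
      rw [PiTensorProduct.map_tprod]
      refine MultilinearMap.map_coord_zero _ i ?_
      exact heK _ (List.mem_flatMap.2 ⟨σ, Finset.mem_toList.2 (Finset.mem_univ σ), hi⟩)
    have h0 : Te (P σ z - z) = 0 := this (hmem σ)
    rwa [map_sub, sub_eq_zero] at h0
  set w := Te z with hw
  have hwinv : ∀ σ, P σ w = w := fun σ =>
    ((PiTensorProduct.map_reindex (fun _ : Fin d => e) σ z).symm).trans (hTe σ)
  have hTπw : Tπ w = Tπ z := by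
    rw [hw, ← LinearMap.comp_apply, ← PiTensorProduct.map_comp]
    simp only [he]
    rfl
  rw [← hTπw]
  -- pass to coefficients
  let E : (⨂[R] _ : Fin d, (ι →₀ R)) ≃ₗ[R] (Fin d → ι) →₀ R := PiTensorProduct.ofFinsuppEquiv'
  have hEP : ∀ (σ : Equiv.Perm (Fin d)) (v : ⨂[R] _ : Fin d, (ι →₀ R)) (s : Fin d → ι),
      E (P σ v) s = E v (s ∘ σ) := by
    intro σ v s
    induction v using PiTensorProduct.induction_on with
    | smul_tprod r f =>
      simp only [map_smul, P, PiTensorProduct.reindex_tprod, E,
        PiTensorProduct.ofFinsuppEquiv'_apply_apply, Finsupp.smul_apply]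
      congr 1
      rw [← Equiv.prod_comp σ]
      exact Finset.prod_congr rfl fun i _ => congrArg (fun j => f j (s (σ i))) (σ.symm_apply_apply i)
    | add a b ha hb => simp only [map_add, Finsupp.add_apply, ha, hb]
  have hcinv : ∀ (σ : Equiv.Perm (Fin d)) s, E w (s ∘ σ) = E w s := fun σ s => by
    rw [← hEP, hwinv]
  have hspan := mem_span_orbit_of_invariant (E w) hcinv
  have hmap := Submodule.apply_mem_span_image_of_mem_span (Tπ ∘ₗ E.symm.toLinearMap) hspan
  rw [LinearMap.comp_apply, LinearEquiv.coe_coe, LinearEquiv.symm_apply_apply] at hmap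
  refine Submodule.span_le.2 ?_ hmap
  rintro _ ⟨_, ⟨t, rfl⟩, rfl⟩
  refine Submodule.subset_span ⟨t, ?_⟩
  simp only [map_sum]
  refine Finset.sum_congr rfl fun s _ => ?_
  rw [LinearMap.comp_apply, LinearEquiv.coe_coe]
  have : E.symm (Finsupp.single s (1 : R)) =
      PiTensorProduct.tprod R fun i => Finsupp.single (s i) (1 : R) := by
    rw [LinearEquiv.symm_apply_eq]
    simp [E]
  rw [this, PiTensorProduct.map_tprod]
  simp [π]

end Flat

end H9SymQ
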